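import Cfsg.Agent.Lib.U43Iso.Engine
import Cfsg.Agent.Lib.U43Iso.Data400
import Cfsg.Agent.Lib.U43Iso.Data800

/-!
Groups of U₄(3) type: the two enumerations.
-/

set_option autoImplicit false

namespace CfsgU43Iso

/-- The enumeration for the first coordinate `φ 400`. -/
def cert400 : Cert :=
  ⟨Data400.facts, Data400.nf, Data400.par, Data400.rep, Data400.rows, rulesOf (rels 400) Data400.spec,
    Data400.codes⟩

/-- The enumeration for the first coordinate `φ 800`. -/
def cert800 : Cert :=
  ⟨Data800.facts, Data800.nf, Data800.par, Data800.rep, Data800.rows, rulesOf (rels 800) Data800.spec,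
    Data800.codes⟩

end CfsgU43Iso
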