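import Cfsg.Agent.Lib.U43Iso.Cert

/-!
Groups of U₄(3) type: kernel checks of the enumeration for the code 800.
-/

set_option autoImplicit false
set_option maxRecDepth 100000
set_option maxHeartbeats 4000000

namespace CfsgU43Iso

theorem facts800_0 : cert800.okFacts 0 500 = true := by decide +kernel

theorem facts800_500 : cert800.okFacts 500 500 = true := by decide +kernel

theorem facts800_1000 : cert800.okFacts 1000 500 = true := by decide +kernel

theorem facts800_1500 : cert800.okFacts 1500 500 = true := by decide +kernel

theorem facts800_2000 : cert800.okFacts 2000 500 = true := by decide +kernel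

theorem facts800_2500 : cert800.okFacts 2500 500 = true := by decide +kernel

theorem facts800_3000 : cert800.okFacts 3000 173 = true := by decide +kernel

theorem rows800 : ((List.range 112).all fun d => cert800.okRow d) = true := by decide +kernel

theorem okFact800 {j : ℕ} (hj : j < cert800.nf) : cert800.okFact j = true := by
  replace hj : j < 3173 := hj
  have key : ∀ lo m, cert800.okFacts lo m = true → lo ≤ j → j < lo + m → cert800.okFact j = true := fun lo m h h1 h2 => by
    have := List.all_eq_true.1 h (j - lo) (List.mem_range.2 (by omega))
    rwa [Nat.add_sub_cancel' h1] at this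
  rcases Nat.lt_or_ge j 500 with h | h
  · exact key _ _ facts800_0 (by omega) h
  rcases Nat.lt_or_ge j 1000 with h | h
  · exact key _ _ facts800_500 (by omega) h
  rcases Nat.lt_or_ge j 1500 with h | h
  · exact key _ _ facts800_1000 (by omega) h
  rcases Nat.lt_or_ge j 2000 with h | h
  · exact key _ _ facts800_1500 (by omega) h
  rcases Nat.lt_or_ge j 2500 with h | h
  · exact key _ _ facts800_2000 (by omega) h
  rcases Nat.lt_or_ge j 3000 with h | h
  · exact key _ _ facts800_2500 (by omega) h
  exact key _ _ facts800_3000 (by omega) (by omega)

end CfsgU43Iso
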