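import Mathlib.Data.List.Basic

/-!
Groups of U₄(3) type: the relators among eight generators (letters `2g`, `2g+1` for a generator and its inverse).
-/

set_option autoImplicit false

namespace CfsgU43Iso

/-- The inverse letter. -/
def flipL (x : ℕ) : ℕ := if x % 2 = 0 then x + 1 else x - 1

/-- The inverse word. -/
def winv (w : List ℕ) : List ℕ := w.reverse.map flipL

/-- The conjugate word. -/
def wC (a b : List ℕ) : List ℕ := a ++ b ++ winv a

/-- The relator of an equation. -/
def wEq (a b : List ℕ) : List ℕ := a ++ winv b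

/-- Relators in the first six generators. -/
def baseRels : List (List ℕ) :=
  [[4, 8, 5, 9, 5, 1, 1, 1], [4, 2, 5, 3], [6, 0, 7, 1], [6, 2, 7, 3], [10, 8, 10, 9], [0, 0, 4, 4], [10, 4, 10, 5],
    [0, 8, 8, 1], [4, 6, 6, 8, 2, 9, 5], [4, 10, 6, 6, 11, 7, 5], [6, 4, 6, 4, 7, 7, 5]]

/-- Words for some elements of the centraliser. -/
def wordFor : ℕ → List ℕ
  | 48 => [0, 0]
  | 1 => [8]
  | 2 => [10]
  | 3 => [8, 10]
  | 49 => [0, 0, 8]
  | 51 => [10, 8]
  | 100 => [0, 4]
  | 148 => [0, 0, 0, 4]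
  | 400 => [2, 6]
  | 416 => [2, 6, 6]
  | 800 => [2, 2, 6, 6]
  | _ => []

/-- The images of the element of order three in the second coordinate. -/
def wF1 : List ℕ := wC [12] (wordFor 416)

/-- The same, once more. -/
def wF2 : List ℕ := wC ([12] ++ [12]) (wordFor 416)

/-- The relators with the two further generators; `a` is the code of the first coordinate. -/
def moreRels (a : ℕ) : List (List ℕ) :=
  let e := [12]; let f := [14]; let d := wordFor 400; let g := wordFor 416
  [e ++ e ++ e, f ++ f ++ f, wEq (wC e (wordFor 48)) (wordFor 1), wEq (wC e (wordFor 1)) (wordFor 49),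
    wEq (e ++ d) (d ++ e), wEq (wC f (wordFor 48)) (wordFor 3), wEq (wC f (wordFor 3)) (wordFor 51),
    wEq (f ++ g) (g ++ f), wEq (wC e (wordFor 100)) (wordFor 100), wEq (wC f (wordFor 148)) (wordFor 148),
    wEq (wF1 ++ g) (g ++ wF1), wEq (wF1 ++ wF2) (wF2 ++ wF1), wEq (wF2 ++ g) (g ++ wF2), wEq (wF1 ++ d) (d ++ wF1),
    wEq (wF2 ++ d) (d ++ wF2), wF1 ++ wF1 ++ wF1, wF2 ++ wF2 ++ wF2, wEq (wC (wordFor 2) wF1) wF2,
    wEq (wC (wordFor 1) wF1) wF1, wEq (wC f (wordFor a)) (wF1 ++ wF2 ++ wF2),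
    wEq (wC f (wF1 ++ wF2 ++ wF2)) (wF1 ++ wF2), wEq (wC f (wF1 ++ wF2)) (wordFor a)]

/-- All relators. -/
def rels (a : ℕ) : List (List ℕ) := baseRels ++ moreRels a

/-- The rule derived from a position in a relator. -/
def mkRule (R : List (List ℕ)) (s : ℕ × ℕ × ℕ) : ℕ × List ℕ :=
  let w := R.getD s.1 []
  let i := s.2.1
  if s.2.2 = 1 ∧ i < w.length then (w.getD i 16, winv (w.take i) ++ winv (w.drop (i + 1)))
  else (16, winv (w.take i) ++ winv (w.drop i))

/-- The rules: the trivial ones and the derived ones. -/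
def rulesOf (R : List (List ℕ)) (spec : List (ℕ × ℕ × ℕ)) : List (ℕ × List ℕ) :=
  (16, []) :: ((List.range 16).flatMap fun x => [(x, [x]), (16, [x, flipL x])]) ++ spec.map (mkRule R)

end CfsgU43Iso
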