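import Cfsg.Agent.Lib.CosetEnum.Basic
import Cfsg.Agent.Lib.U43Iso.Rels
import Cfsg.Agent.Lib.PermChain.Code
import Mathlib.GroupTheory.GroupAction.Defs
import Mathlib.Algebra.BigOperators.Group.List.Basic
import Mathlib.Tactic.Group

/-!
Groups of U₄(3) type: a certified coset enumeration gives points permuted like the table says.
-/

set_option autoImplicit false

namespace CfsgU43Iso

open CfsgLib.CosetEnum (Tree force fld)
open CfsgPC (ap)

/-- The data of an enumeration. -/
structure Cert where
  /-- the facts -/
  facts : Tree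
  /-- their number -/
  nf : ℕ
  /-- the definitions of the cosets -/
  par : Tree
  /-- the surviving cosets -/
  rep : List ℕ
  /-- the facts giving the rows of the final table -/
  rows : List ℕ
  /-- the rules -/
  rules : List (ℕ × List ℕ)
  /-- the final table, one code for each letter -/
  codes : List ℕ

/-- The letters fixing the base coset. -/
def subL : List ℕ := [2, 6, 8, 10, 12, 14]

namespace Cert

variable (C : Cert)

/-- A fact seen in one of the two directions, passed on as letter, source and target. -/
noncomputable def orient (f d : ℕ) (k : ℕ → ℕ → ℕ → Bool) : Bool :=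
  force (fld f (nat_lit 0) (nat_lit 8)) fun l => force (fld f (nat_lit 8) (nat_lit 16)) fun s =>
    force (fld f (nat_lit 24) (nat_lit 16)) fun t =>
      if d = 0 then k l s t else k (flipL l) t s

/-- A walk along `m` earlier facts from `c` to `b` reading the word `u`. -/
noncomputable def walk (j b : ℕ) : ℕ → ℕ → ℕ → List ℕ → Bool
  | 0, c, _, u => Nat.beq c b && u.isEmpty
  | m + 1, c, refs, u => force (fld refs (nat_lit 0) (nat_lit 16)) fun r => Nat.blt (r / 2) j &&
      orient (C.facts.get (r / 2)) (r % 2) fun l s t => Nat.beq c s &&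
        force (Nat.shiftRight refs 16) fun refs' => if 16 ≤ l then walk j b m t refs' u
          else !u.isEmpty && Nat.beq (u.headD 0) l && walk j b m t refs' u.tail

/-- The check of one fact. -/
noncomputable def okFact (j : ℕ) : Bool :=
  force (C.facts.get j) fun f => force (fld f 0 8) fun x => force (fld f 8 16) fun a => force (fld f 24 16) fun b =>
    force (fld f 40 4) fun k =>
      if k = 0 then Nat.blt a b && Nat.blt x 32 && Nat.beq (C.par.get b) (x + 32 * a)
      else if k = 1 then Nat.beq a 0 && Nat.beq b 0 && subL.contains x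
      else force (fld f 44 16) fun r => Nat.blt r C.rules.length && Nat.beq (C.rules.getD r (0, [])).1 x &&
        C.walk j b (fld f 60 16) a (Nat.shiftRight f 76) (C.rules.getD r (0, [])).2

/-- The facts in a range are right. -/
noncomputable def okFacts (lo m : ℕ) : Bool := (List.range m).all fun i => C.okFact (lo + i)

/-- One row of the final table. -/
noncomputable def okRow (d : ℕ) : Bool :=
  force (C.rows.getD d 0) fun v => force (C.rep.getD d 0) fun c => (List.range 16).all fun x =>
    force (ap (C.codes.getD x 0) d) fun d' => Nat.blt d' 112 &&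
      C.walk C.nf (C.rep.getD d' 0) 1 c (fld v (16 * x) 16) [x]

end Cert

noncomputable section Run

variable {G : Type*} [Group G] {P : Type*} [MulAction G P]

/-- The element of a letter. -/
def letG (L : List G) (x : ℕ) : G := if x % 2 = 0 then L.getD (x / 2) 1 else (L.getD (x / 2) 1)⁻¹

/-- The element of a word. -/
def evW (L : List G) (w : List ℕ) : G := (w.map (letG L)).prod

theorem letG_flip (L : List G) (x : ℕ) : letG L (flipL x) = (letG L x)⁻¹ := by
  unfold letG flipL
  rcases Nat.mod_two_eq_zero_or_one x with h | h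
  · rw [if_pos h, if_pos h, if_neg (show ¬ (x + 1) % 2 = 0 by omega), show (x + 1) / 2 = x / 2 by omega]
  · rw [if_neg (show ¬ x % 2 = 0 by omega), if_neg (show ¬ x % 2 = 0 by omega),
      if_pos (show (x - 1) % 2 = 0 by omega), show (x - 1) / 2 = x / 2 by omega, inv_inv]

theorem letG_big {L : List G} (hL : L.length ≤ 8) {x : ℕ} (hx : 16 ≤ x) : letG L x = 1 := by
  unfold letG
  rw [List.getD_eq_default _ _ (show L.length ≤ x / 2 by omega)]
  simp

theorem evW_append (L : List G) (u w : List ℕ) : evW L (u ++ w) = evW L u * evW L w := by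
  simp [evW]

theorem evW_cons (L : List G) (x : ℕ) (w : List ℕ) : evW L (x :: w) = letG L x * evW L w := by
  simp [evW]

theorem evW_one (L : List G) (x : ℕ) : evW L [x] = letG L x := by
  simp [evW]

theorem evW_nil (L : List G) : evW L [] = 1 := rfl

theorem evW_winv (L : List G) (w : List ℕ) : evW L (winv w) = (evW L w)⁻¹ := by
  induction w with
  | nil => simp [winv, evW]
  | cons x w ih =>
    rw [show winv (x :: w) = winv w ++ [flipL x] by simp [winv], evW_append, ih, evW_one, letG_flip, evW_cons,
      mul_inv_rev]

/-- Derived rules hold. -/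
theorem mkRule_ok {L : List G} (hL : L.length ≤ 8) {R : List (List ℕ)} (hR : ∀ w ∈ R, evW L w = 1)
    (s : ℕ × ℕ × ℕ) : letG L (mkRule R s).1 = evW L (mkRule R s).2 := by
  have hw : evW L (R.getD s.1 []) = 1 := by
    rw [List.getD_eq_getElem?_getD]
    cases h : R[s.1]? with
    | none => rfl
    | some w => exact hR w (List.mem_of_getElem? h)
  obtain ⟨w, hwdef⟩ : ∃ w, R.getD s.1 [] = w := ⟨_, rfl⟩
  rw [hwdef] at hw
  unfold mkRule
  rw [hwdef]
  by_cases h : s.2.2 = 1 ∧ s.2.1 < w.length
  · simp only [if_pos h, evW_append, evW_winv]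
    rw [← List.take_append_drop s.2.1 w, List.drop_eq_getElem_cons h.2, evW_append, evW_cons] at hw
    rw [List.getD_eq_getElem _ _ h.2]
    calc letG L w[s.2.1]
        = (evW L (w.take s.2.1))⁻¹ * (evW L (w.take s.2.1) * (letG L w[s.2.1] * evW L (w.drop (s.2.1 + 1)))) *
          (evW L (w.drop (s.2.1 + 1)))⁻¹ := by group
      _ = _ := by rw [hw, mul_one]
  · simp only [if_neg h, letG_big hL le_rfl, evW_append, evW_winv]
    rw [← List.take_append_drop s.2.1 w, evW_append] at hw
    rw [← mul_inv_rev, eq_comm, inv_eq_one]
    calc evW L (w.drop s.2.1) * evW L (w.take s.2.1)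
        = (evW L (w.take s.2.1))⁻¹ * (evW L (w.take s.2.1) * evW L (w.drop s.2.1)) * evW L (w.take s.2.1) := by group
      _ = 1 := by rw [hw]; group

theorem rulesOf_ok {L : List G} (hL : L.length ≤ 8) {R : List (List ℕ)} (hR : ∀ w ∈ R, evW L w = 1)
    (spec : List (ℕ × ℕ × ℕ)) : ∀ r ∈ rulesOf R spec, letG L r.1 = evW L r.2 := by
  intro r hr
  simp only [rulesOf, List.cons_append, List.mem_cons, List.mem_append, List.mem_flatMap, List.mem_range,
    List.mem_map, List.not_mem_nil, or_false] at hr
  rcases hr with rfl | ⟨x, -, rfl | rfl⟩ | ⟨s, -, rfl⟩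
  · exact letG_big hL le_rfl
  · exact (evW_one L x).symm
  · rw [letG_big hL le_rfl, evW_cons, evW_one, letG_flip, mul_inv_cancel]
  · exact mkRule_ok hL hR s

/-- The action of a letter, read from the left. -/
def stepP (L : List G) (x : ℕ) (v : P) : P := (letG L x)⁻¹ • v

/-- The point of a coset. -/
def pointOf (L : List G) (par : Tree) (base : P) (b : ℕ) : P :=
  if h : par.get b / 32 < b then stepP L (par.get b % 32) (pointOf L par base (par.get b / 32)) else base
termination_by b
decreasing_by exact h

variable {L : List G} {base : P} {C : Cert}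

/-- The meaning of a fact. -/
def Holds (L : List G) (base : P) (C : Cert) (j : ℕ) : Prop :=
  stepP L (fld (C.facts.get j) 0 8) (pointOf L C.par base (fld (C.facts.get j) 8 16)) =
    pointOf L C.par base (fld (C.facts.get j) 24 16)

theorem force_eq {α : Type} (i : ℕ) (k : ℕ → α) : force i k = k i := by
  cases i <;> rfl

theorem walk_sound (hL : L.length ≤ 8) {j b : ℕ} (hj : ∀ i < j, Holds L base C i) :
    ∀ m c refs u, C.walk j b m c refs u = true →
      (evW L u)⁻¹ • pointOf L C.par base c = pointOf L C.par base b := by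
  intro m
  induction m with
  | zero =>
    intro c refs u h
    simp only [Cert.walk, Bool.and_eq_true, List.isEmpty_iff] at h
    rw [h.2, evW_nil, inv_one, one_smul, Nat.eq_of_beq_eq_true h.1]
  | succ m ih =>
    intro c refs u h
    obtain ⟨r, hr⟩ : ∃ r, fld refs 0 16 = r := ⟨_, rfl⟩
    simp only [Cert.walk, force_eq, hr, Bool.and_eq_true, Nat.blt_eq] at h
    obtain ⟨hlt, h⟩ := h
    have H := hj _ hlt
    rw [Holds] at H
    have fl : ∀ l s t, stepP L l (pointOf L C.par base s) = pointOf L C.par base t →
        stepP L (flipL l) (pointOf L C.par base t) = pointOf L C.par base s := fun l s t e => by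
      rw [stepP, letG_flip, inv_inv, ← e, stepP, smul_inv_smul]
    obtain ⟨l, s, t, hst, h⟩ : ∃ l s t, stepP L l (pointOf L C.par base s) = pointOf L C.par base t ∧
        (Nat.beq c s && if 16 ≤ l then C.walk j b m t (Nat.shiftRight refs 16) u
          else !u.isEmpty && Nat.beq (u.headD 0) l && C.walk j b m t (Nat.shiftRight refs 16) u.tail) = true := by
      simp only [Cert.orient, force_eq] at h
      split at h
      · exact ⟨_, _, _, H, h⟩
      · exact ⟨_, _, _, fl _ _ _ H, h⟩
    rw [Bool.and_eq_true] at h
    obtain ⟨hc, h⟩ := h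
    rw [Nat.eq_of_beq_eq_true hc]
    split at h
    · next hl =>
      rw [← ih _ _ _ h, ← hst, stepP, letG_big hL hl, inv_one, one_smul]
    · cases u with
      | nil => simp at h
      | cons y u =>
        simp only [List.isEmpty_cons, Bool.not_false, Bool.true_and, List.headD_cons, List.tail_cons,
          Bool.and_eq_true] at h
        rw [← ih _ _ _ h.2, evW_cons, mul_inv_rev, mul_smul, Nat.eq_of_beq_eq_true h.1]
        exact congrArg _ hst

theorem facts_sound (hL : L.length ≤ 8) (hsub : ∀ x ∈ subL, stepP L x base = base)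
    (hrule : ∀ r ∈ C.rules, letG L r.1 = evW L r.2) (hok : ∀ j < C.nf, C.okFact j = true) :
    ∀ j < C.nf, Holds L base C j := by
  intro j
  induction j using Nat.strong_induction_on with
  | _ j ih =>
    intro hj
    have h := hok j hj
    rw [Holds]
    simp only [Cert.okFact, force_eq] at h
    generalize fld (C.facts.get j) 0 8 = x at h ⊢
    generalize fld (C.facts.get j) 8 16 = a at h ⊢
    generalize fld (C.facts.get j) 24 16 = b at h ⊢
    split at h
    · simp only [Bool.and_eq_true, Nat.blt_eq] at h
      have e := Nat.eq_of_beq_eq_true h.2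
      rw [eq_comm]
      conv_lhs => rw [pointOf]
      rw [dif_pos (show C.par.get b / 32 < b by rw [e]; omega), e, show (x + 32 * a) / 32 = a by omega,
        show (x + 32 * a) % 32 = x by omega]
    split at h
    · simp only [Bool.and_eq_true, List.contains_iff_mem] at h
      rw [Nat.eq_of_beq_eq_true h.1.1, Nat.eq_of_beq_eq_true h.1.2,
        show pointOf L C.par base 0 = base by rw [pointOf, dif_neg (Nat.not_lt_zero _)]]
      exact hsub x h.2
    · simp only [Bool.and_eq_true, Nat.blt_eq] at h
      obtain ⟨⟨hr, hx⟩, hw⟩ := h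
      rw [← walk_sound hL (fun i hi => ih i hi (hi.trans hj)) _ _ _ _ hw, ← Nat.eq_of_beq_eq_true hx, stepP]
      rw [hrule _ (by rw [List.getD_eq_getElem _ _ hr]; exact List.getElem_mem _)]

/-- The points of the final table. -/
theorem table_sound (hL : L.length ≤ 8) (hsub : ∀ x ∈ subL, stepP L x base = base)
    (hrule : ∀ r ∈ C.rules, letG L r.1 = evW L r.2) (hok : ∀ j < C.nf, C.okFact j = true)
    (hrow : ∀ d < 112, C.okRow d = true) (h0 : C.rep.getD 0 0 = 0) :
    ∃ f : ℕ → P, f 0 = base ∧ ∀ d < 112, ∀ x < 16, ap (C.codes.getD x 0) d < 112 ∧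
      stepP L x (f d) = f (ap (C.codes.getD x 0) d) := by
  refine ⟨fun d => pointOf L C.par base (C.rep.getD d 0), ?_, fun d hd x hx => ?_⟩
  · show pointOf L C.par base _ = base
    rw [h0, pointOf, dif_neg (Nat.not_lt_zero _)]
  have h := hrow d hd
  simp only [Cert.okRow, force_eq, List.all_eq_true, List.mem_range] at h
  have := h x hx
  simp only [Bool.and_eq_true, Nat.blt_eq] at this
  refine ⟨this.1, ?_⟩
  have e := walk_sound hL (facts_sound hL hsub hrule hok) _ _ _ _ this.2
  rwa [evW_one] at e

end Run

end CfsgU43Iso
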