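import Cfsg.Agent.Lib.U43Type.CountSix

/-!
Groups of U₄(3) type: no nontrivial normal subgroup of odd order.
-/

set_option autoImplicit false
set_option maxRecDepth 100000
set_option linter.unusedSectionVars false

namespace CfsgU43Iso

open CfsgU43Type

/-- Generators of the quaternion product in the model. -/
def qGens : List ℕ := [96, mconj 384 96, 4, mconj 16 4]

theorem q_gens_ok : ((List.range 1152).all fun c => qGens.all fun q =>
      let m := mmul (mconj c q) (minv q)
      mmul (mmul m m) (mmul m m) == 0) = true ∧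
    ((List.range 1152).all fun c => [0, 48].contains c || qGens.any fun q => mmul c q != mmul q c) = true ∧
    (qGens.all fun q => decide (q < 1152)) = true := by decide +kernel

variable {G : Type*} [Group G] [Finite G] {z : G} {φ : ℕ → G}

/-- An element of odd order whose fourth power is trivial is trivial. -/
theorem eq_one_of_four {R : Subgroup G} (hodd : Odd (Nat.card R)) {x : G} (hx : x ∈ R) (h : x ^ 4 = 1) : x = 1 := by
  have h1 : orderOf x ∣ Nat.card R := Subgroup.orderOf_mk x hx ▸ orderOf_dvd_natCard (⟨x, hx⟩ : R)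
  have h4 : orderOf x ∣ 2 ^ 2 := orderOf_dvd_iff_pow_eq_one.2 h
  exact orderOf_eq_one_iff.1 (((hodd.of_dvd_nat h1).coprime_two_right.pow_right 2).eq_one_of_dvd h4)

/-- The centraliser of `z` meets a normal subgroup of odd order trivially. -/
theorem Data.cent_free (D : Data z φ) {R : Subgroup G} [hn : R.Normal] (hodd : Odd (Nat.card R)) {x : G}
    (hx : x ∈ R) (hxz : x * z = z * x) : x = 1 := by
  obtain ⟨c, hc, rfl⟩ := (D.cent x).1 hxz
  have hcom : ∀ q ∈ qGens, mmul c q = mmul q c := by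
    intro q hq
    have hql : q < 1152 := by simpa using of_all q_gens_ok.2.2 hq
    obtain ⟨m, hm⟩ : ∃ m, mmul (mconj c q) (minv q) = m := ⟨_, rfl⟩
    have hml : m < 1152 := hm ▸ mmul_lt (mconj_lt hc hql) (minv_lt hql)
    have hmR : φ m ∈ R := by
      rw [← hm, D.mul _ (mconj_lt hc hql) _ (minv_lt hql), D.conj hc hql, D.inv hql, mul_assoc (φ c), mul_assoc (φ c)]
      exact R.mul_mem hx (hn.conj_mem _ (R.inv_mem hx) (φ q))
    have h4 := of_all (of_range_all q_gens_ok.1 hc) hq
    simp only [hm, beq_iff_eq] at h4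
    have h1 : φ m = 1 := eq_one_of_four hodd hmR (by
      rw [show φ m ^ 4 = φ m * φ m * (φ m * φ m) by simp [pow_succ, mul_assoc], ← D.mul _ hml _ hml,
        ← D.mul _ (mmul_lt hml hml) _ (mmul_lt hml hml), h4, D.one])
    rw [← hm, D.mul _ (mconj_lt hc hql) _ (minv_lt hql), D.conj hc hql, D.inv hql, mul_inv_eq_one,
      mul_inv_eq_iff_eq_mul] at h1
    exact (D.commute_iff hc hql).1 h1
  have := of_range_all q_gens_ok.2.1 hc
  simp only [Bool.or_eq_true, List.contains_iff_mem, List.mem_cons, List.not_mem_nil, or_false, List.any_eq_true,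
    bne_iff_ne] at this
  rcases this with (rfl | rfl) | ⟨q, hq, hne⟩
  · exact D.one
  · exact eq_one_of_four hodd hx (by rw [D.zc, show 4 = 2 * 2 from rfl, pow_mul, pow_two z, D.zz, one_pow])
  · exact absurd (hcom q hq) hne

/-- An involution fixing nothing else inverts a normal subgroup of odd order. -/
theorem inverts_of_free {R : Subgroup G} [hn : R.Normal] {u : G} (hu : u * u = 1)
    (hfree : ∀ x ∈ R, x * u = u * x → x = 1) {x : G} (hx : x ∈ R) : u * x * u⁻¹ = x⁻¹ := by
  obtain ⟨F, hF⟩ : ∃ F : R → R, ∀ y, (F y : G) = (y : G)⁻¹ * (u * (y : G) * u⁻¹) :=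
    ⟨fun y => ⟨(y : G)⁻¹ * (u * (y : G) * u⁻¹), R.mul_mem (R.inv_mem y.2) (hn.conj_mem _ y.2 u)⟩, fun _ => rfl⟩
  have hinj : Function.Injective F := fun p q h => Subtype.ext (by
    have e := congrArg Subtype.val h
    rw [hF, hF] at e
    refine (mul_inv_eq_one.1 (hfree _ (R.mul_mem q.2 (R.inv_mem p.2)) ?_)).symm
    rw [eq_comm, ← mul_inv_eq_iff_eq_mul]
    calc u * ((q : G) * (p : G)⁻¹) * u⁻¹
        = (q : G) * ((q : G)⁻¹ * (u * (q : G) * u⁻¹)) * (u * (p : G) * u⁻¹)⁻¹ := by group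
      _ = _ := by rw [← e]; group)
  obtain ⟨y, hy⟩ := (Finite.injective_iff_surjective.1 hinj) ⟨x, hx⟩
  have e := congrArg Subtype.val hy
  rw [hF] at e
  dsimp at e
  rw [← e]
  calc u * ((y : G)⁻¹ * (u * (y : G) * u⁻¹)) * u⁻¹
      = (u * (y : G) * u⁻¹)⁻¹ * ((u * u) * (y : G) * (u * u)⁻¹) := by group
    _ = _ := by rw [hu]; group

/-- A normal subgroup of odd order is trivial. -/
theorem Data.odd_normal (D : Data z φ) {R : Subgroup G} [hn : R.Normal] (hodd : Odd (Nat.card R)) : R = ⊥ := by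
  have hfree : ∀ u, orderOf u = 2 → ∀ x ∈ R, x * u = u * x → x = 1 := by
    intro u hu x hx hxu
    obtain ⟨g, hg⟩ := isConj_iff.1 (D.one_class hu)
    have h1 : g⁻¹ * x * g = 1 := by
      refine Data.cent_free D hodd (by simpa using hn.conj_mem x hx g⁻¹) ?_
      rw [← mul_inv_eq_iff_eq_mul, show g⁻¹ * x * g * z * (g⁻¹ * x * g)⁻¹ = g⁻¹ * (x * (g * z * g⁻¹) * x⁻¹) * g by
        group, hg, hxu, mul_inv_cancel_right, ← hg]
      group
    rw [show x = g * (g⁻¹ * x * g) * g⁻¹ by group, h1]; group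
  have c1 : orderOf (φ 1) = 2 := orderOf_eq_prime (by
      rw [sq]; exact (D.sq_iff (by norm_num)).2 (by decide +kernel)) fun h => by
    rw [← D.one] at h; exact absurd (D.inj 1 (by norm_num) 0 (by norm_num) h) (by norm_num)
  have c49 : orderOf (φ 49) = 2 := orderOf_eq_prime (by
      rw [sq]; exact (D.sq_iff (by norm_num)).2 (by decide +kernel)) fun h => by
    rw [← D.one] at h; exact absurd (D.inj 49 (by norm_num) 0 (by norm_num) h) (by norm_num)
  have inv : ∀ u, orderOf u = 2 → ∀ x ∈ R, u * x * u⁻¹ = x⁻¹ := fun u hu x hx =>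
    inverts_of_free (by rw [← sq, ← hu, pow_orderOf_eq_one]) (hfree u hu) hx
  rw [eq_bot_iff]
  intro x hx
  have h := inv _ c49 x hx
  rw [D.c49, show z * φ 1 * x * (z * φ 1)⁻¹ = z * (φ 1 * x * (φ 1)⁻¹) * z⁻¹ by group, inv _ c1 x hx,
    inv _ D.z2 _ (R.inv_mem hx), inv_inv] at h
  exact Subgroup.mem_bot.2 (eq_one_of_four hodd hx (by
    rw [show 4 = 2 * 2 from rfl, pow_mul, sq x, mul_eq_one_iff_eq_inv.2 h, one_pow]))

end CfsgU43Iso
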