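import Cfsg.Agent.Lib.U43Type.Normal
import Cfsg.Agent.Lib.U43Iso.Engine

/-!
Groups of U₄(3) type: eight generators satisfying the relators of the enumeration.
-/

set_option autoImplicit false
set_option maxRecDepth 100000
set_option linter.unusedSectionVars false

namespace CfsgU43Iso

open CfsgU43Type

variable {G : Type*} [Group G] {z : G} {φ : ℕ → G} {B : Subgroup G} {θ : ℕ → G} {e e' : G}

/-- A code centralising the relevant elements sends `φ 100` into its orbit. -/
theorem cent_sends : ((List.range 1152).all fun c => mmul c 1 != mmul 1 c || mmul c 400 != mmul 400 c ||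
    [100, 200, 300].contains (mconj c 100)) = true := by decide +kernel

theorem triple_back : ([100, 200, 300].all fun u => [0, 400, 800].any fun c => mconj c u == 100) = true := by
  decide +kernel

theorem adjust_ok : ([0, 400, 800].all fun c => decide (c < 1152) && tList.contains c && mmul c 1 == mmul 1 c &&
    mmul c 49 == mmul 49 c && mmul c 400 == mmul 400 c && mmul c (mmul c c) == 0 && tList.contains (twist c)) = true := by
  decide +kernel

/-- An element of order three can be changed to fix `φ 100`. -/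
theorem exists_fix (D : Data z φ) [Finite G] {e : G} (he : Cyc z φ e) :
    ∃ c ∈ [0, 400, 800], Cyc z φ (φ c * e) ∧ φ c * e * φ 100 * (φ c * e)⁻¹ = φ 100 := by
  obtain ⟨e₀, h1, h2, h3, h4, h5, -, hS⟩ := D.exists_e
  obtain ⟨q, hq⟩ : ∃ q, e₀⁻¹ * e = q := ⟨_, rfl⟩
  have he' : e = e₀ * q := by rw [← hq]; group
  have fixes : ∀ p r : G, e₀ * p * e₀⁻¹ = r → e * p * e⁻¹ = r → q * p = p * q := fun p r a b => by
    rw [← mul_inv_eq_iff_eq_mul, ← hq, show e₀⁻¹ * e * p * (e₀⁻¹ * e)⁻¹ = e₀⁻¹ * (e * p * e⁻¹) * e₀ by group, b, ← a]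
    group
  obtain ⟨k, hk, hke⟩ := (D.cent q).1 (fixes _ _ h2 he.one)
  have k1 : mmul k 1 = mmul 1 k := (D.commute_iff hk (by norm_num)).1 (by rw [hke]; exact fixes _ _ h3 he.two)
  have k4 : mmul k 400 = mmul 400 k := (D.commute_iff hk (by norm_num)).1 (by
    rw [hke]
    exact fixes _ _ (mul_inv_eq_iff_eq_mul.2 h1) (mul_inv_eq_iff_eq_mul.2 he.comm))
  have hmem := of_range_all cent_sends hk
  simp only [k1, k4, bne_self_eq_false, Bool.false_or, List.contains_iff_mem] at hmem
  obtain ⟨u, hu, hue⟩ := hS _ hmem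
  have hue' : e * φ 100 * e⁻¹ = φ u := by
    rw [he', show e₀ * q * φ 100 * (e₀ * q)⁻¹ = e₀ * (q * φ 100 * q⁻¹) * e₀⁻¹ by group, ← hke,
      ← D.conj hk (by norm_num), hue]
  have hu' : u < 1152 := by simp at hu; omega
  have := of_all triple_back hu
  simp only [List.any_eq_true, beq_iff_eq] at this
  obtain ⟨c, hc, hcu⟩ := this
  have hok := of_all adjust_ok hc
  simp only [Bool.and_eq_true, beq_iff_eq, decide_eq_true_eq] at hok
  obtain ⟨⟨⟨⟨⟨⟨hl, -⟩, c1⟩, c49⟩, c400⟩, c3⟩, -⟩ := hok
  have ce : Commute e (φ c) := by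
    simp only [List.mem_cons, List.not_mem_nil, or_false] at hc
    rcases hc with rfl | rfl | rfl
    · rw [D.one]; exact Commute.one_right _
    · exact he.comm
    · rw [show 800 = mmul 400 400 by decide +kernel, D.mul _ (by norm_num) _ (by norm_num)]
      exact Commute.mul_right he.comm he.comm
  refine ⟨c, hc, ?_, ?_⟩
  · have cj : ∀ p r, r < 1152 → mmul c r = mmul r c → e * p * e⁻¹ = φ r → φ c * e * p * (φ c * e)⁻¹ = φ r :=
      fun p r hr hcr h => by
        rw [show φ c * e * p * (φ c * e)⁻¹ = φ c * (e * p * e⁻¹) * (φ c)⁻¹ by group, h,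
          (D.commute_iff hl hr).2 hcr, mul_inv_cancel_right]
    refine ⟨?_, cj _ 1 (by norm_num) c1 he.one, cj _ 49 (by norm_num) c49 he.two, ?_, ?_⟩
    · exact (Commute.mul_left ((D.commute_iff hl (by norm_num)).2 c400) he.comm).eq
    · rw [show φ c * e * φ 49 * (φ c * e)⁻¹ = φ c * (e * φ 49 * e⁻¹) * (φ c)⁻¹ by group, he.three, D.comm_z hl,
        mul_inv_cancel_right]
    · have h3c : φ c * (φ c * φ c) = 1 := by
        rw [← D.mul _ hl _ hl, ← D.mul _ hl _ (mmul_lt hl hl), c3, D.one]
      calc φ c * e * (φ c * e) * (φ c * e) = φ c * (φ c * φ c) * (e * e * e) := by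
            rw [show φ c * e * (φ c * e) = φ c * (e * φ c) * e by group, ce.eq,
              show φ c * (φ c * e) * e * (φ c * e) = φ c * φ c * (e * e * φ c) * e by group,
              (ce.mul_left ce).eq]
            group
        _ = 1 := by rw [h3c, he.cube, mul_one]
  · rw [show φ c * e * φ 100 * (φ c * e)⁻¹ = φ c * (e * φ 100 * e⁻¹) * (φ c)⁻¹ by group, hue',
      ← D.conj hl hu', hcu]

/-- The codes of the first six generators. -/
def genCodes : List ℕ := [96, 384, 4, 16, 1, 2]

/-- The code of a letter among the first six. -/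
def letC (x : ℕ) : ℕ := if x % 2 = 0 then genCodes.getD (x / 2) 0 else minv (genCodes.getD (x / 2) 0)

/-- The code of a word in the first six generators. -/
def evC (w : List ℕ) : ℕ := w.foldr (fun x r => mmul (letC x) r) 0

/-- The generators of the enumeration. -/
def genList (φ : ℕ → G) (e f : G) : List G := [φ 96, φ 384, φ 4, φ 16, φ 1, φ 2, e, f]

/-- The codes with a word. -/
def wCodes : List ℕ := [48, 1, 2, 3, 49, 51, 100, 148, 400, 416, 800]

theorem baseRels_ok : (baseRels.all fun w => (w.all fun x => decide (x < 12)) && evC w == 0) = true := by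
  decide +kernel

theorem wordFor_ok : (wCodes.all fun c => ((wordFor c).all fun x => decide (x < 12)) && evC (wordFor c) == c) = true := by
  decide +kernel

theorem letG_code (D : Data z φ) (e f : G) {x : ℕ} (hx : x < 12) :
    letG (genList φ e f) x = φ (letC x) ∧ letC x < 1152 := by
  have hg : ∀ i < 6, (genList φ e f).getD i 1 = φ (genCodes.getD i 0) ∧ genCodes.getD i 0 < 1152 := fun i hi => by
    interval_cases i <;> simp [genList, genCodes]
  obtain ⟨h1, h2⟩ := hg (x / 2) (by omega)
  unfold letG letC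
  split_ifs
  · exact ⟨h1, h2⟩
  · exact ⟨by rw [h1, D.inv h2], minv_lt h2⟩

theorem evW_code (D : Data z φ) (e f : G) : ∀ w : List ℕ, (∀ x ∈ w, x < 12) →
    evW (genList φ e f) w = φ (evC w) ∧ evC w < 1152 := by
  intro w
  induction w with
  | nil => exact fun _ => ⟨by rw [evW_nil, show evC [] = 0 from rfl, D.one], by decide⟩
  | cons x w ih =>
    intro h
    obtain ⟨e1, l1⟩ := letG_code D e f (h x (List.mem_cons_self ..))
    obtain ⟨e2, l2⟩ := ih fun y hy => h y (List.mem_cons_of_mem _ hy)
    exact ⟨by rw [evW_cons, e1, e2, show evC (x :: w) = mmul (letC x) (evC w) from rfl, D.mul _ l1 _ l2],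
      mmul_lt l1 l2⟩

theorem evW_wordFor (D : Data z φ) (e f : G) {c : ℕ} (hc : c ∈ wCodes) :
    evW (genList φ e f) (wordFor c) = φ c := by
  have h := of_all wordFor_ok hc
  simp only [Bool.and_eq_true, beq_iff_eq, List.all_eq_true, decide_eq_true_eq] at h
  rw [(evW_code D e f _ h.1).1, h.2]

/-- The eight generators with what is used about them. -/
structure GenData (z : G) (φ : ℕ → G) (θ : ℕ → G) (B : Subgroup G) (a : ℕ) (L : List G) : Prop where
  len : L.length = 8
  code : ∀ c ∈ wCodes, evW L (wordFor c) = φ c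
  first : ∀ i < 6, L.getD i 1 = φ (genCodes.getD i 0)
  rel : ∀ w ∈ rels a, evW L w = 1
  sub : ∀ x ∈ subL, letG L x ∈ Subgroup.normalizer (B : Set G)
  ae : VAct θ (L.getD 6 1) lE
  ae' : VAct θ (L.getD 7 1) lE'
  nine : evW L wF1 = θ 9
  twentyseven : evW L wF2 = θ 27

variable [Finite G]

theorem Base.exists_gens (D : Base z φ B θ e e') :
    ∃ a, (a = 400 ∨ a = 800) ∧ θ 1 = φ a ∧ ∃ L : List G, GenData z φ θ B a L := by
  obtain ⟨a, ha, hθ1⟩ : ∃ a, (a = 400 ∨ a = 800) ∧ θ 1 = φ a := by
    rcases D.t1 with h | h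
    · exact ⟨400, Or.inl rfl, h⟩
    · exact ⟨800, Or.inr rfl, h⟩
  refine ⟨a, ha, hθ1, ?_⟩
  obtain ⟨c, hc, hE, h100⟩ := exists_fix D.data D.cyc
  obtain ⟨c', hc', hF, h148⟩ := exists_fix D.data.twisted D.cyc'
  simp only [show twist 100 = 148 by decide +kernel] at h148
  obtain ⟨t400, t1, t49⟩ : twist 400 = 416 ∧ twist 1 = 3 ∧ twist 49 = 51 := by decide +kernel
  obtain ⟨f1, f2, f3, f4, f5⟩ := hF
  simp only [t400] at f1
  simp only [t1] at f2 f3
  simp only [t49] at f3 f4
  have hcB : ∀ p ∈ tList, φ p ∈ B := fun p hp => D.data.t_mem_B D.odd hp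
  have hc0 : φ c ∈ B ∧ φ (twist c') ∈ B := by
    have h1 := of_all adjust_ok hc
    have h2 := of_all adjust_ok hc'
    simp only [Bool.and_eq_true, beq_iff_eq, decide_eq_true_eq, List.contains_iff_mem] at h1 h2
    exact ⟨hcB _ h1.1.1.1.1.1.2, hcB _ h2.2⟩
  have hE' : VAct θ (φ c * e) lE := by
    have h := D.coord.act_mul (D.coord.act_self hc0.1) D.ae
    rwa [show lmul lone lE = lE by decide +kernel] at h
  have hF' : VAct θ (φ (twist c') * e') lE' := by
    have h := D.coord.act_mul (D.coord.act_self hc0.2) D.ae'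
    rwa [show lmul lone lE' = lE' by decide +kernel] at h
  obtain ⟨E, hEdef⟩ : ∃ E, φ c * e = E := ⟨_, rfl⟩
  obtain ⟨F, hFdef⟩ : ∃ F, φ (twist c') * e' = F := ⟨_, rfl⟩
  rw [hEdef] at hE hE' h100
  rw [hFdef] at f1 f2 f3 f4 f5 hF' h148
  refine ⟨genList φ E F, ?_⟩
  have W : ∀ p ∈ wCodes, evW (genList φ E F) (wordFor p) = φ p := fun p hp => evW_wordFor D.data E F hp
  have l12 : evW (genList φ E F) [12] = E := by rw [evW_one]; rfl
  have l14 : evW (genList φ E F) [14] = F := by rw [evW_one]; rfl
  have wc : ∀ u w, evW (genList φ E F) (wC u w) =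
      evW (genList φ E F) u * evW (genList φ E F) w * (evW (genList φ E F) u)⁻¹ := fun u w => by
    simp only [wC, evW_append, evW_winv]
  have we : ∀ u w, evW (genList φ E F) u = evW (genList φ E F) w → evW (genList φ E F) (wEq u w) = 1 := fun u w h => by
    simp only [wEq, evW_append, evW_winv, h, mul_inv_cancel]
  have ap9 : lapp lE 3 = 9 ∧ lapp lE 9 = 27 ∧ lapp lT 9 = 27 ∧ lapp lS 9 = 9 ∧ lapp lE' 1 = 63 ∧ lapp lE' 63 = 36 ∧
      lapp lE' 36 = 1 ∧ vadd (vadd 9 27) 27 = 63 ∧ vadd 9 27 = 36 ∧ vadd (vadd 9 9) 9 = 0 ∧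
      vadd (vadd 27 27) 27 = 0 := by decide +kernel
  obtain ⟨p1, p2, p3, p4, p5, p6, p7, p8, p9, p10, p11⟩ := ap9
  have hF1 : evW (genList φ E F) wF1 = θ 9 := by
    rw [wF1, wc, l12, W 416 (by simp [wCodes]), ← D.t3, hE' 3 (by norm_num), p1]
  have hF2 : evW (genList φ E F) wF2 = θ 27 := by
    rw [wF2, wc, evW_append, l12, W 416 (by simp [wCodes]), ← D.t3,
      show E * E * θ 3 * (E * E)⁻¹ = E * (E * θ 3 * E⁻¹) * E⁻¹ by group, hE' 3 (by norm_num), p1,
      hE' 9 (by norm_num), p2]
  have hθB : ∀ v, v < 81 → θ v ∈ B := fun v hv => (D.coord.mem _).2 ⟨v, hv, rfl⟩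
  have h9 := hθB 9 (by norm_num)
  have h27 := hθB 27 (by norm_num)
  have h416 : φ 416 ∈ B := hcB _ (by simp [tList])
  have h400 : φ 400 ∈ B := hcB _ (by simp [tList])
  have h63 : θ 9 * θ 27 * θ 27 = θ 63 := by
    rw [← D.coord.add 9 (by norm_num) 27 (by norm_num), ← D.coord.add _ (by rw [p9]; norm_num) 27 (by norm_num), p8]
  have h36 : θ 9 * θ 27 = θ 36 := by rw [← D.coord.add 9 (by norm_num) 27 (by norm_num), p9]
  have ha' : evW (genList φ E F) (wordFor a) = θ 1 := by
    rw [hθ1]; exact W a (by rcases ha with rfl | rfl <;> simp [wCodes])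
  refine ⟨rfl, W, fun i hi => ?_, ?_, ?_, hE', hF', hF1, hF2⟩
  · interval_cases i <;> rfl
  · intro w hw
    rcases List.mem_append.1 hw with hw | hw
    · have h := List.all_eq_true.1 baseRels_ok w hw
      simp only [Bool.and_eq_true, beq_iff_eq, List.all_eq_true, decide_eq_true_eq] at h
      rw [(evW_code D.data E F _ h.1).1, h.2, D.data.one]
    have W48 := W 48 (by simp [wCodes])
    rw [D.data.zc] at W48
    have W1 := W 1 (by simp [wCodes])
    have W2 := W 2 (by simp [wCodes])
    have W3 := W 3 (by simp [wCodes])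
    have W49 := W 49 (by simp [wCodes])
    have W51 := W 51 (by simp [wCodes])
    have W100 := W 100 (by simp [wCodes])
    have W148 := W 148 (by simp [wCodes])
    have W400 := W 400 (by simp [wCodes])
    have W416 := W 416 (by simp [wCodes])
    simp only [moreRels, List.mem_cons, List.not_mem_nil, or_false] at hw
    rcases hw with rfl | rfl | rfl | rfl | rfl | rfl | rfl | rfl | rfl | rfl | rfl | rfl | rfl | rfl | rfl | rfl |
      rfl | rfl | rfl | rfl | rfl | rfl
    · rw [evW_append, evW_append, l12]; exact hE.cube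
    · rw [evW_append, evW_append, l14]; exact f5
    · exact we _ _ (by rw [wc, l12, W48, W1]; exact hE.one)
    · exact we _ _ (by rw [wc, l12, W1, W49]; exact hE.two)
    · exact we _ _ (by rw [evW_append, evW_append, l12, W400]; exact hE.comm)
    · exact we _ _ (by rw [wc, l14, W48, W3]; exact f2)
    · exact we _ _ (by rw [wc, l14, W3, W51]; exact f3)
    · exact we _ _ (by rw [evW_append, evW_append, l14, W416]; exact f1)
    · exact we _ _ (by rw [wc, l12, W100]; exact h100)
    · exact we _ _ (by rw [wc, l14, W148]; exact h148)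
    · exact we _ _ (by rw [evW_append, evW_append, hF1, W416]; exact D.coord.comm h9 h416)
    · exact we _ _ (by rw [evW_append, evW_append, hF1, hF2]; exact D.coord.comm h9 h27)
    · exact we _ _ (by rw [evW_append, evW_append, hF2, W416]; exact D.coord.comm h27 h416)
    · exact we _ _ (by rw [evW_append, evW_append, hF1, W400]; exact D.coord.comm h9 h400)
    · exact we _ _ (by rw [evW_append, evW_append, hF2, W400]; exact D.coord.comm h27 h400)
    · rw [evW_append, evW_append, hF1, ← D.coord.add 9 (by norm_num) 9 (by norm_num),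
        ← D.coord.add _ (vadd_lt (by norm_num) (by norm_num)) 9 (by norm_num), p10, D.coord.zero]
    · rw [evW_append, evW_append, hF2, ← D.coord.add 27 (by norm_num) 27 (by norm_num),
        ← D.coord.add _ (vadd_lt (by norm_num) (by norm_num)) 27 (by norm_num), p11, D.coord.zero]
    · exact we _ _ (by rw [wc, W2, hF1, hF2, D.at' 9 (by norm_num), p3])
    · exact we _ _ (by rw [wc, W1, hF1, D.as 9 (by norm_num), p4])
    · exact we _ _ (by rw [wc, l14, ha', evW_append, evW_append, hF1, hF2, h63, hF' 1 (by norm_num), p5])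
    · exact we _ _ (by rw [wc, l14, evW_append, evW_append, hF1, hF2, h63, hF' 63 (by norm_num), p6, h36])
    · exact we _ _ (by rw [wc, l14, ha', evW_append, hF1, hF2, h36, hF' 36 (by norm_num), p7])
  · intro x hx
    have hBN : ∀ p ∈ tList, φ p ∈ Subgroup.normalizer (B : Set G) := fun p hp => Subgroup.le_normalizer (hcB p hp)
    simp only [subL, List.mem_cons, List.not_mem_nil, or_false] at hx
    rcases hx with rfl | rfl | rfl | rfl | rfl | rfl
    · exact hBN 384 (by simp [tList])
    · exact hBN 16 (by simp [tList])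
    · exact D.coord.act_normalize D.as
    · exact D.coord.act_normalize D.at'
    · exact D.coord.act_normalize hE'
    · exact D.coord.act_normalize hF'

end CfsgU43Iso
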