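import Cfsg.Agent.Lib.PermChain.Closed
import Cfsg.Agent.Lib.CosetEnum.Basic
import Cfsg.Agent.Lib.U43Mult.GroupData

/-!
Groups of U₄(3) type: what is checked about the joint group on 112 + 280 points, level by level.
-/

set_option autoImplicit false

namespace CfsgU43Iso

open CfsgPC
open CfsgLib.CosetEnum (force)

/-- The lengths of the levels. -/
def jointLens : List ℕ := [112, 30, 27, 2, 9, 2]

/-- Sifting with the intermediate codes evaluated. -/
noncomputable def siftF (n : ℕ) : List Level → ℕ → Bool
  | [], h => (List.range n).all fun i => Nat.beq (ap h i) i
  | L :: ls, h => force (cp n (L.ti (L.pos.getD (ap h L.base) 0)) h) fun h' => L.findsOK (ap h L.base) && siftF n ls h'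

/-- A level. -/
def levelAt (chain : List Level) (j : ℕ) : Level := chain.getD j ⟨0, [], [], []⟩

/-- The joint generators restrict to permutations of the two parts, the second one given. -/
def jointGensOK (joint jointInv : List ℕ) : Bool :=
  Nat.beq joint.length 2 && (List.range 2).all fun j =>
    isPerm 392 (joint.getD j 0) (jointInv.getD j 0) && isPerm 112 (joint.getD j 0) (jointInv.getD j 0) &&
      ((List.range 280).all fun i =>
        Nat.beq (ap (joint.getD j 0) (112 + i)) (112 + ap ((CfsgLib.U43Mult.gens.map Prod.fst).getD j 0) i))

/-- The shape of a level and the generators of the next one. -/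
def levelShape (chain : List Level) (gs : List (List ℕ)) (j : ℕ) : Bool :=
  let L := levelAt chain j
  Nat.blt L.base 392 && Nat.beq L.tr.length (jointLens.getD j 0) && selOK 392 L (gs.getD j []) &&
    (L.nextGens 392 (gs.getD j []) == gs.getD (j + 1) [])

/-- The entries of a level in a range are right. -/
def levelEntries (chain : List Level) (gs : List (List ℕ)) (j : ℕ) : Bool :=
  (List.range (jointLens.getD j 0)).all fun k => entryOK 392 (levelAt chain j) (gs.getD j []) k

/-- The Schreier generators of a level sift. -/
noncomputable def levelClosed (chain : List Level) (gs : List (List ℕ)) (j : ℕ) : Bool :=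
  (List.range (jointLens.getD j 0)).all fun k => (gs.getD j []).all fun g =>
    (levelAt chain j).findsOK (ap g ((levelAt chain j).pt k)) &&
      force ((levelAt chain j).schreier 392 g k) fun h => siftF 392 (chain.drop (j + 1)) h

/-- The images of the generators lie in the group and extend the table. -/
noncomputable def imagesOK (codes images inv : List ℕ) (chain : List Level) : Bool :=
  (List.range 8).all fun g => siftF 392 chain (images.getD g 0) && isPerm 392 (images.getD g 0) (inv.getD g 0) &&
    (List.range 112).all fun i => Nat.beq (ap (images.getD g 0) i) (ap (codes.getD (2 * g + 1) 0) i)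

/-- What is used about the joint group. -/
structure JointFacts (codes joint jointInv images inv : List ℕ) (chain : List Level) (gs : List (List ℕ)) : Prop where
  gens : jointGensOK joint jointInv = true
  top : chain.length = 6 ∧ gs.getD 0 [] = joint
  last : ((gs.getD 6 []).all fun c => (List.range 392).all fun i => Nat.beq (ap c i) i) = true
  shape : ∀ j < 6, levelShape chain gs j = true
  entries : ∀ j < 6, levelEntries chain gs j = true
  closed : ∀ j < 6, levelClosed chain gs j = true
  img : imagesOK codes images inv chain = true

end CfsgU43Iso
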