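import Cfsg.Agent.Lib.U43Iso.Joint
import Cfsg.Agent.Lib.U43Iso.Data400

/-!
Groups of U₄(3) type: kernel checks of the joint group for the code 400.
-/

set_option autoImplicit false
set_option maxRecDepth 100000
set_option maxHeartbeats 4000000
set_option Elab.async false

namespace CfsgU43Iso

open CfsgPC

theorem jointGens400 : jointGensOK Data400.joint Data400.jointInv = true := by decide +kernel

theorem jointTop400 : Data400.chain.length = 6 ∧ Data400.chainGens.getD 0 [] = Data400.joint := by decide +kernel

theorem jointLast400 : ((Data400.chainGens.getD 6 []).all fun c => (List.range 392).all fun i => Nat.beq (ap c i) i) = true := by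
  decide +kernel

theorem jointShape400_0 : levelShape Data400.chain Data400.chainGens 0 = true := by decide +kernel

theorem jointEntries400_0 : levelEntries Data400.chain Data400.chainGens 0 = true := by decide +kernel

theorem jointClosed400_0 : levelClosed Data400.chain Data400.chainGens 0 = true := by decide +kernel

theorem jointShape400_1 : levelShape Data400.chain Data400.chainGens 1 = true := by decide +kernel

theorem jointEntries400_1 : levelEntries Data400.chain Data400.chainGens 1 = true := by decide +kernel

theorem jointClosed400_1 : levelClosed Data400.chain Data400.chainGens 1 = true := by decide +kernel

theorem jointShape400_2 : levelShape Data400.chain Data400.chainGens 2 = true := by decide +kernel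

theorem jointEntries400_2 : levelEntries Data400.chain Data400.chainGens 2 = true := by decide +kernel

theorem jointClosed400_2 : levelClosed Data400.chain Data400.chainGens 2 = true := by decide +kernel

theorem jointShape400_3 : levelShape Data400.chain Data400.chainGens 3 = true := by decide +kernel

theorem jointEntries400_3 : levelEntries Data400.chain Data400.chainGens 3 = true := by decide +kernel

theorem jointClosed400_3 : levelClosed Data400.chain Data400.chainGens 3 = true := by decide +kernel

theorem jointShape400_4 : levelShape Data400.chain Data400.chainGens 4 = true := by decide +kernel

theorem jointEntries400_4 : levelEntries Data400.chain Data400.chainGens 4 = true := by decide +kernel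

theorem jointClosed400_4 : levelClosed Data400.chain Data400.chainGens 4 = true := by decide +kernel

theorem jointShape400_5 : levelShape Data400.chain Data400.chainGens 5 = true := by decide +kernel

theorem jointEntries400_5 : levelEntries Data400.chain Data400.chainGens 5 = true := by decide +kernel

theorem jointClosed400_5 : levelClosed Data400.chain Data400.chainGens 5 = true := by decide +kernel

theorem jointImages400 : imagesOK Data400.codes Data400.images Data400.imagesInv Data400.chain = true := by decide +kernel

theorem joint400 :
    JointFacts Data400.codes Data400.joint Data400.jointInv Data400.images Data400.imagesInv Data400.chain Data400.chainGens := by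
  refine ⟨jointGens400, jointTop400, jointLast400, fun j hj => ?_, fun j hj => ?_, fun j hj => ?_, jointImages400⟩
  · interval_cases j
    exacts [jointShape400_0, jointShape400_1, jointShape400_2, jointShape400_3, jointShape400_4, jointShape400_5]
  · interval_cases j
    exacts [jointEntries400_0, jointEntries400_1, jointEntries400_2, jointEntries400_3, jointEntries400_4, jointEntries400_5]
  · interval_cases j
    exacts [jointClosed400_0, jointClosed400_1, jointClosed400_2, jointClosed400_3, jointClosed400_4, jointClosed400_5]

end CfsgU43Iso
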