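import Cfsg.Agent.Lib.U43Iso.Joint
import Cfsg.Agent.Lib.U43Iso.Data800

/-!
Groups of U₄(3) type: kernel checks of the joint group for the code 800.
-/

set_option autoImplicit false
set_option maxRecDepth 100000
set_option maxHeartbeats 4000000
set_option Elab.async false

namespace CfsgU43Iso

open CfsgPC

theorem jointGens800 : jointGensOK Data800.joint Data800.jointInv = true := by decide +kernel

theorem jointTop800 : Data800.chain.length = 6 ∧ Data800.chainGens.getD 0 [] = Data800.joint := by decide +kernel

theorem jointLast800 : ((Data800.chainGens.getD 6 []).all fun c => (List.range 392).all fun i => Nat.beq (ap c i) i) = true := by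
  decide +kernel

theorem jointShape800_0 : levelShape Data800.chain Data800.chainGens 0 = true := by decide +kernel

theorem jointEntries800_0 : levelEntries Data800.chain Data800.chainGens 0 = true := by decide +kernel

theorem jointClosed800_0 : levelClosed Data800.chain Data800.chainGens 0 = true := by decide +kernel

theorem jointShape800_1 : levelShape Data800.chain Data800.chainGens 1 = true := by decide +kernel

theorem jointEntries800_1 : levelEntries Data800.chain Data800.chainGens 1 = true := by decide +kernel

theorem jointClosed800_1 : levelClosed Data800.chain Data800.chainGens 1 = true := by decide +kernel

theorem jointShape800_2 : levelShape Data800.chain Data800.chainGens 2 = true := by decide +kernel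

theorem jointEntries800_2 : levelEntries Data800.chain Data800.chainGens 2 = true := by decide +kernel

theorem jointClosed800_2 : levelClosed Data800.chain Data800.chainGens 2 = true := by decide +kernel

theorem jointShape800_3 : levelShape Data800.chain Data800.chainGens 3 = true := by decide +kernel

theorem jointEntries800_3 : levelEntries Data800.chain Data800.chainGens 3 = true := by decide +kernel

theorem jointClosed800_3 : levelClosed Data800.chain Data800.chainGens 3 = true := by decide +kernel

theorem jointShape800_4 : levelShape Data800.chain Data800.chainGens 4 = true := by decide +kernel

theorem jointEntries800_4 : levelEntries Data800.chain Data800.chainGens 4 = true := by decide +kernel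

theorem jointClosed800_4 : levelClosed Data800.chain Data800.chainGens 4 = true := by decide +kernel

theorem jointShape800_5 : levelShape Data800.chain Data800.chainGens 5 = true := by decide +kernel

theorem jointEntries800_5 : levelEntries Data800.chain Data800.chainGens 5 = true := by decide +kernel

theorem jointClosed800_5 : levelClosed Data800.chain Data800.chainGens 5 = true := by decide +kernel

theorem jointImages800 : imagesOK Data800.codes Data800.images Data800.imagesInv Data800.chain = true := by decide +kernel

theorem joint800 :
    JointFacts Data800.codes Data800.joint Data800.jointInv Data800.images Data800.imagesInv Data800.chain Data800.chainGens := by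
  refine ⟨jointGens800, jointTop800, jointLast800, fun j hj => ?_, fun j hj => ?_, fun j hj => ?_, jointImages800⟩
  · interval_cases j
    exacts [jointShape800_0, jointShape800_1, jointShape800_2, jointShape800_3, jointShape800_4, jointShape800_5]
  · interval_cases j
    exacts [jointEntries800_0, jointEntries800_1, jointEntries800_2, jointEntries800_3, jointEntries800_4, jointEntries800_5]
  · interval_cases j
    exacts [jointClosed800_0, jointClosed800_1, jointClosed800_2, jointClosed800_3, jointClosed800_4, jointClosed800_5]

end CfsgU43Iso
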