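import Cfsg.Agent.Lib.U43Iso.Joint
import Cfsg.Agent.Lib.U43Mult.Group

/-!
Groups of U₄(3) type: a group of permutations of 112 points generated like the table says is PSU₄(3).
-/

set_option autoImplicit false
set_option maxRecDepth 100000

namespace CfsgU43Iso

open Equiv CfsgPC
open CfsgLib.CosetEnum (force)

theorem force_id {α : Type} (i : ℕ) (k : ℕ → α) : force i k = k i := by
  cases i <;> rfl

theorem siftF_eq (n : ℕ) : ∀ (ls : List Level) (h : ℕ), siftF n ls h = sift n ls h
  | [], _ => rfl
  | L :: ls, h => by simp only [siftF, sift, force_id, siftF_eq n ls]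

/-- Permutations of the two parts act on all points. -/
def pairPerm : Perm (Fin 112) × Perm (Fin 280) →* Perm (Fin 392) :=
  (finSumFinEquiv (m := 112) (n := 280)).permCongrHom.toMonoidHom.comp (Perm.sumCongrHom (Fin 112) (Fin 280))

theorem pairPerm_left (x : Perm (Fin 112) × Perm (Fin 280)) (i : Fin 112) :
    (pairPerm x (Fin.castAdd 280 i) : ℕ) = (x.1 i : ℕ) := by
  show (finSumFinEquiv (Sum.map x.1 x.2 (finSumFinEquiv.symm (Fin.castAdd 280 i))) : ℕ) = _
  rw [finSumFinEquiv_symm_apply_castAdd, Sum.map_inl, finSumFinEquiv_apply_left, Fin.coe_castAdd]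

theorem pairPerm_right (x : Perm (Fin 112) × Perm (Fin 280)) (i : Fin 280) :
    (pairPerm x (Fin.natAdd 112 i) : ℕ) = 112 + (x.2 i : ℕ) := by
  show (finSumFinEquiv (Sum.map x.1 x.2 (finSumFinEquiv.symm (Fin.natAdd 112 i))) : ℕ) = _
  rw [finSumFinEquiv_symm_apply_natAdd, Sum.map_inr, finSumFinEquiv_apply_right, Fin.coe_natAdd]

variable {codes joint jointInv images inv : List ℕ} {chain : List Level} {gs : List (List ℕ)}

theorem JointFacts.gensAt_eq (T : JointFacts codes joint jointInv images inv chain gs) :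
    ∀ j ≤ 6, gensAt 392 chain joint j = gs.getD j [] := by
  have step : ∀ (ls : List Level) (gens : List ℕ) j, j < ls.length →
      gensAt 392 ls gens (j + 1) = (ls.getD j ⟨0, [], [], []⟩).nextGens 392 (gensAt 392 ls gens j) := by
    intro ls
    induction ls with
    | nil => intro _ j h; simp at h
    | cons L ls ih =>
      intro gens j hj
      cases j with
      | zero => cases ls <;> rfl
      | succ j =>
        rw [gensAt, gensAt, List.getD_cons_succ]
        exact ih _ j (by simpa using hj)
  intro j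
  induction j with
  | zero => exact fun _ => by rw [T.top.2]; cases chain <;> rfl
  | succ j ih =>
    intro hj
    rw [step _ _ j (by rw [T.top.1]; omega), ih (by omega)]
    have := T.shape j (by omega)
    simp only [levelShape, Bool.and_eq_true, beq_iff_eq] at this
    exact this.2

theorem JointFacts.table (T : JointFacts codes joint jointInv images inv chain gs) :
    TableOK 392 chain joint := by
  have sh : ∀ (ls : List Level) (gens : List ℕ), (∀ j < ls.length,
      (ls.getD j ⟨0, [], [], []⟩).base < 392 ∧ 0 < (ls.getD j ⟨0, [], [], []⟩).tr.length ∧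
      selOK 392 (ls.getD j ⟨0, [], [], []⟩) (gensAt 392 ls gens j) = true) → shapeOK 392 ls gens = true := by
    intro ls
    induction ls with
    | nil => intros; rfl
    | cons L ls ih =>
      intro gens h
      obtain ⟨h1, h2, h3⟩ := h 0 (by simp)
      simp only [List.getD_cons_zero] at h1 h2 h3
      simp only [shapeOK, Bool.and_eq_true, Nat.blt_eq]
      exact ⟨⟨⟨h1, h2⟩, by simpa [gensAt] using h3⟩, ih _ fun j hj => by simpa [gensAt] using h (j + 1) (by simpa using hj)⟩
  refine tableOK_of_checks (sh _ _ fun j hj => ?_) fun j hj k hk => ?_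
  all_goals rw [T.top.1] at hj
  all_goals have hs := T.shape j hj
  all_goals simp only [levelShape, levelAt, Bool.and_eq_true, Nat.blt_eq] at hs
  all_goals rw [T.gensAt_eq j hj.le]
  · refine ⟨hs.1.1.1, ?_, hs.1.2⟩
    rw [Nat.eq_of_beq_eq_true hs.1.1.2]
    interval_cases j <;> decide
  · rw [Nat.eq_of_beq_eq_true hs.1.1.2] at hk
    exact List.all_eq_true.1 (T.entries j hj) k (List.mem_range.2 hk)

theorem JointFacts.card_le (T : JointFacts codes joint jointInv images inv chain gs) : Valid 392 joint ∧
    Nat.card (genG 392 joint) = 3265920 := by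
  have hlen : joint.length = 2 := by
    have := T.gens
    simp only [jointGensOK, Bool.and_eq_true] at this
    exact Nat.eq_of_beq_eq_true this.1
  have hv : Valid 392 joint := fun c hc => by
    obtain ⟨j, hj, rfl⟩ := List.mem_iff_getElem.1 hc
    have := T.gens
    simp only [jointGensOK, Bool.and_eq_true, List.all_eq_true, List.mem_range] at this
    refine ⟨_, decP_rep (ci := jointInv.getD j 0) ?_⟩
    rw [← List.getD_eq_getElem _ 0 hj]
    exact (this.2 j (hlen ▸ hj)).1.1
  have hclosed := table_closed (n := 392) (by norm_num) T.table hv (fun j hj k hk g hg => ?_) (fun c hc i hi => ?_)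
  · refine ⟨hv, ?_⟩
    rw [(table_eq (by norm_num) T.table hv ?_).2]
    · have hl : chain.map (fun L => L.tr.length) = jointLens := by
        refine List.ext_getElem (by rw [List.length_map, T.top.1]; rfl) fun j h1 h2 => ?_
        have hj : j < 6 := by simpa [T.top.1] using h1
        have := T.shape j hj
        simp only [levelShape, levelAt, Bool.and_eq_true] at this
        rw [List.getElem_map, ← List.getD_eq_getElem _ ⟨0, [], [], []⟩ (by rw [T.top.1]; exact hj),
          Nat.eq_of_beq_eq_true this.1.1.2, List.getD_eq_getElem _ _ h2]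
      have : ∀ ls : List Level, sizeOfChain ls = (ls.map fun L => L.tr.length).prod := fun ls => by
        induction ls with
        | nil => rfl
        | cons L ls ih => simp [sizeOfChain, ih]
      rw [this, hl]
      rfl
    · have hp := (table_products (by norm_num) T.table hv).2
      rw [hclosed, ← Nat.card_coe_set_eq] at hp
      exact hp.le
  · rw [T.top.1] at hj
    rw [T.gensAt_eq j hj.le] at hg
    have hs := T.shape j hj
    simp only [levelShape, levelAt, Bool.and_eq_true] at hs
    rw [Nat.eq_of_beq_eq_true hs.1.1.2] at hk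
    have := List.all_eq_true.1 (List.all_eq_true.1 (T.closed j hj) k (List.mem_range.2 hk)) g hg
    simpa only [levelAt, force_id, siftF_eq, Bool.and_eq_true] using this
  · rw [T.top.1, T.gensAt_eq 6 le_rfl] at hc
    exact Nat.eq_of_beq_eq_true (List.all_eq_true.1 (List.all_eq_true.1 T.last c hc) i (List.mem_range.2 hi))

/-- A faithful action on 112 points by generators as in the table gives PSU₄(3). -/
theorem JointFacts.exists_iso (T : JointFacts codes joint jointInv images inv chain gs) {G : Type*} [Group G] [Finite G]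
    (π : G →* Perm (Fin 112)) (hπ : Function.Injective π) {L : List G} (hL : L.length = 8)
    (hrep : ∀ g < 8, Rep 112 (codes.getD (2 * g + 1) 0) (π (L.getD g 1)))
    (htop : Subgroup.closure {x | x ∈ L} = ⊤) (hcard : Nat.card G = 3265920)
    {K : Type*} [Field K] [Fintype K] (hK9 : Fintype.card K = 9) : Nonempty (G ≃* Cfsg.PSU 4 K 3) := by
  obtain ⟨hvalid, hJ⟩ := T.card_le
  obtain ⟨hsmall, -, ⟨ε⟩⟩ := CfsgLib.U43Mult.small_card hK9
  have hlen2 : joint.length = 2 := by
    have := T.gens
    simp only [jointGensOK, Bool.and_eq_true] at this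
    exact Nat.eq_of_beq_eq_true this.1
  have hu : ∀ j < 2, ∃ (p : Perm (Fin 112)) (u : Perm (Fin 280)), Rep 392 (joint.getD j 0) (pairPerm (p, u)) ∧
      Rep 280 ((CfsgLib.U43Mult.gens.map Prod.fst).getD j 0) u := by
    intro j hj
    have := T.gens
    simp only [jointGensOK, Bool.and_eq_true, List.all_eq_true, List.mem_range] at this
    obtain ⟨⟨-, h112⟩, h280⟩ := this.2 j hj
    obtain ⟨u, hu⟩ := CfsgLib.U43Mult.small_valid ((CfsgLib.U43Mult.gens.map Prod.fst).getD j 0) (by
      have hl : j < (CfsgLib.U43Mult.gens.map Prod.fst).length := by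
        rw [List.length_map, CfsgLib.U43Mult.gens_ok.2]; exact hj
      rw [List.getD_eq_getElem _ _ hl]
      exact List.getElem_mem _)
    refine ⟨decP 112 (joint.getD j 0), u, fun i => ?_, hu⟩
    induction i using Fin.addCases (m := 112) (n := 280) with
    | left i => rw [pairPerm_left]; exact decP_rep h112 i
    | right i =>
      rw [pairPerm_right, Fin.coe_natAdd, Nat.eq_of_beq_eq_true (h280 i i.2), hu i]
  choose p u hpu hu using hu
  obtain ⟨M, hM⟩ : ∃ M : Subgroup (Perm (Fin 112) × Perm (Fin 280)),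
      Subgroup.closure {x | ∃ j, ∃ h : j < 2, x = (p j h, u j h)} = M := ⟨_, rfl⟩
  have hgen : ∀ {n : ℕ} (cs : List ℕ), cs.length = 2 → ∀ (q : ∀ j, j < 2 → Perm (Fin n)),
      (∀ j (h : j < 2), Rep n (cs.getD j 0) (q j h)) →
      genG n cs = Subgroup.closure {x | ∃ j, ∃ h : j < 2, x = q j h} := by
    intro n cs hcs q hq
    rw [genG]
    congr 1
    ext g
    refine ⟨fun ⟨c, hc, hg⟩ => ?_, ?_⟩
    · obtain ⟨j, hj, rfl⟩ := List.mem_iff_getElem.1 hc
      rw [← List.getD_eq_getElem _ 0 hj] at hg
      exact ⟨j, hcs ▸ hj, hg.unique (hq j _)⟩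
    · rintro ⟨j, hj, rfl⟩
      refine ⟨_, ?_, hq j hj⟩
      rw [List.getD_eq_getElem _ _ (hcs.symm ▸ hj : j < cs.length)]
      exact List.getElem_mem _
  have hJM : M.map pairPerm = genG 392 joint := by
    rw [hgen joint hlen2 (fun j h => pairPerm (p j h, u j h)) hpu, ← hM, MonoidHom.map_closure]
    congr 1
    ext g
    simp only [Set.mem_image, Set.mem_setOf_eq]
    exact ⟨fun ⟨_, ⟨j, h, e⟩, e'⟩ => ⟨j, h, by rw [← e', e]⟩, fun ⟨j, h, e⟩ => ⟨_, ⟨j, h, rfl⟩, e.symm⟩⟩
  have hsnd : M.map (MonoidHom.snd (Perm (Fin 112)) (Perm (Fin 280))) = genG 280 (CfsgLib.U43Mult.gens.map Prod.fst) := by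
    rw [hgen _ (by rw [List.length_map, CfsgLib.U43Mult.gens_ok.2]) u hu, ← hM, MonoidHom.map_closure]
    congr 1
    ext g
    simp only [Set.mem_image, Set.mem_setOf_eq]
    exact ⟨fun ⟨_, ⟨j, h, e⟩, e'⟩ => ⟨j, h, by rw [← e', e]; rfl⟩, fun ⟨j, h, e⟩ => ⟨_, ⟨j, h, rfl⟩, e.symm⟩⟩
  have hinj : Function.Injective pairPerm := by
    rw [pairPerm, MonoidHom.coe_comp]
    exact ((finSumFinEquiv (m := 112) (n := 280)).permCongrHom.injective).comp Perm.sumCongrHom_injective
  have hMcard : Nat.card M = 3265920 := by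
    rw [← hJ, ← hJM, Subgroup.card_map_of_injective hinj]
  -- the images of the generators lie in the first projection
  have himg : ∀ g < 8, π (L.getD g 1) ∈ M.map (MonoidHom.fst (Perm (Fin 112)) (Perm (Fin 280))) := by
    intro g hg
    have := T.img
    simp only [imagesOK, Bool.and_eq_true, List.all_eq_true, List.mem_range, siftF_eq] at this
    obtain ⟨⟨hs, hp⟩, h112⟩ := this g hg
    have hmem := mem_of_sift (by norm_num) T.table hvalid _ _ (decP_rep hp) hs
    rw [← hJM] at hmem
    obtain ⟨x, hx, hxe⟩ := hmem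
    refine ⟨x, hx, Equiv.ext fun i => Fin.ext ?_⟩
    rw [MonoidHom.coe_fst, ← pairPerm_left, hxe, ← hrep g hg i, ← Nat.eq_of_beq_eq_true (h112 i i.2)]
    exact (decP_rep hp (Fin.castAdd 280 i)).symm
  have hle : π.range ≤ M.map (MonoidHom.fst (Perm (Fin 112)) (Perm (Fin 280))) := by
    rw [MonoidHom.range_eq_map, ← htop, MonoidHom.map_closure, Subgroup.closure_le]
    rintro _ ⟨x, hx, rfl⟩
    obtain ⟨g, hg, rfl⟩ := List.mem_iff_getElem.1 hx
    rw [← List.getD_eq_getElem _ 1 hg]
    exact himg g (hL ▸ hg)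
  obtain ⟨e₁⟩ : Nonempty (G ≃* M) := by
    obtain ⟨F, hF⟩ : ∃ F : M →* Perm (Fin 112), F = (MonoidHom.fst _ _).comp M.subtype := ⟨_, rfl⟩
    have hrange : F.range = M.map (MonoidHom.fst (Perm (Fin 112)) (Perm (Fin 280))) := by
      rw [hF, MonoidHom.range_comp, Subgroup.range_subtype]
    have hG : Nat.card π.range = 3265920 := by
      rw [← hcard]; exact (Nat.card_congr (MonoidHom.ofInjective hπ).toEquiv).symm
    have h1 : 3265920 ≤ Nat.card F.range := by
      rw [← hG]; exact Subgroup.card_le_of_le (hle.trans hrange.ge)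
    have h2 : Function.Bijective F.rangeRestrict := by
      refine (Nat.bijective_iff_surjective_and_card _).2 ⟨F.rangeRestrict_surjective, ?_⟩
      exact le_antisymm (hMcard.le.trans h1) (Nat.card_le_card_of_surjective _ F.rangeRestrict_surjective)
    have heq : π.range = F.range := Subgroup.eq_of_le_of_card_ge (hle.trans hrange.ge) (by
      rw [hG, ← hMcard]; exact (Nat.card_congr (Equiv.ofBijective _ h2)).ge)
    exact ⟨((MonoidHom.ofInjective hπ).trans (MulEquiv.subgroupCongr heq)).trans (MulEquiv.ofBijective _ h2).symm⟩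
  obtain ⟨e₂⟩ : Nonempty (M ≃* CfsgLib.U43Mult.SmallU) := by
    obtain ⟨F, hF⟩ : ∃ F : M →* Perm (Fin 280), F = (MonoidHom.snd _ _).comp M.subtype := ⟨_, rfl⟩
    have hrange : F.range = genG 280 (CfsgLib.U43Mult.gens.map Prod.fst) := by
      rw [hF, MonoidHom.range_comp, Subgroup.range_subtype, hsnd]
    have h2 : Function.Bijective F.rangeRestrict := by
      refine (Nat.bijective_iff_surjective_and_card _).2 ⟨F.rangeRestrict_surjective, ?_⟩
      rw [hMcard, ← hsmall, Nat.card_congr (MulEquiv.subgroupCongr hrange).toEquiv]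
    exact ⟨(MulEquiv.ofBijective _ h2).trans (MulEquiv.subgroupCongr hrange)⟩
  exact ⟨(e₁.trans e₂).trans ε.symm⟩

end CfsgU43Iso
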