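import Cfsg.Agent.Lib.U43Iso.Table
import Cfsg.Agent.Lib.U43Iso.Checks400
import Cfsg.Agent.Lib.U43Iso.Checks800

/-!
Groups of U₄(3) type: the two tables pass the checks.
-/

set_option autoImplicit false
set_option maxRecDepth 100000
set_option maxHeartbeats 4000000

namespace CfsgU43Iso

theorem tab400 : tabOK cert400.codes toRep400 toBase400 = true := by decide +kernel

theorem tab800 : tabOK cert800.codes toRep800 toBase800 = true := by decide +kernel

theorem table400 : TableFacts 400 cert400 toRep400 toBase400 :=
  ⟨⟨_, rfl⟩, fun _ => okFact400, fun _ hd => List.all_eq_true.1 rows400 _ (List.mem_range.2 hd),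
    by decide +kernel, tab400⟩

theorem table800 : TableFacts 800 cert800 toRep800 toBase800 :=
  ⟨⟨_, rfl⟩, fun _ => okFact800, fun _ hd => List.all_eq_true.1 rows800 _ (List.mem_range.2 hd),
    by decide +kernel, tab800⟩

end CfsgU43Iso
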