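import Cfsg.Agent.Lib.U43Iso.Points
import Cfsg.Agent.Lib.U43Iso.TableChecks
import Cfsg.Agent.Lib.U43Iso.JointGroup
import Cfsg.Agent.Lib.U43Iso.JointChecks400
import Cfsg.Agent.Lib.U43Iso.JointChecks800

/-!
Groups of U₄(3) type are PSU₄(3).
-/

set_option autoImplicit false
set_option maxRecDepth 100000

namespace CfsgU43Iso

open CfsgU43Type

/-- The recognition. -/
theorem exists_psu_equiv {G : Type*} [Group G] [Finite G] {z : G} {φ : ℕ → G} {B : Subgroup G} {θ : ℕ → G} {e e' : G}
    (D : Base z φ B θ e e') {K : Type*} [Field K] [Fintype K] (hK9 : Fintype.card K = 9) :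
    Nonempty (G ≃* Cfsg.PSU 4 K 3) := by
  obtain ⟨O, vw, W⟩ := D.exists_wData
  have hcard := W.card_group D
  obtain ⟨a, ha, -, L, Gd⟩ := Base.exists_gens D
  rcases ha with rfl | rfl
  · obtain ⟨π, hπ, hrep, htop⟩ := Gd.exists_perm D hcard table400
    exact joint400.exists_iso π hπ Gd.len hrep htop (hcard.trans (by norm_num)) hK9
  · obtain ⟨π, hπ, hrep, htop⟩ := Gd.exists_perm D hcard table800
    exact joint800.exists_iso π hπ Gd.len hrep htop (hcard.trans (by norm_num)) hK9

end CfsgU43Iso
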