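/-!
Groups of U₄(3) type: short paths in the two tables.
-/

set_option autoImplicit false

namespace CfsgU43Iso

/-- Words carrying each point to a representative of its orbit under the stabiliser. -/
def toRep400 : List (List Nat) := [
    [], [], [8], [8, 2, 2], [8, 2], [2], [], [6, 6], [6], [2], [14, 14], [8, 14, 6, 2], [8, 14], [12, 12], [12],
    [12, 2], [2, 12], [2, 2], [12, 2, 12], [2, 2], [14, 14, 2], [12, 12, 2], [14, 2, 14], [10, 12], [14, 8],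
    [10, 2, 12], [10, 12, 2], [12, 14, 2], [14, 8, 2], [2, 14], [14], [14, 2], [10, 12, 6, 6, 2],
    [8, 14, 10, 6, 2], [12, 8], [12, 8, 2], [2, 12, 8], [8, 2, 14], [8, 14, 2], [10, 12, 6, 2, 2],
    [2, 14, 14, 2], [10, 2, 12, 2], [12, 12, 6], [8, 6, 14, 2, 2], [8, 14, 2], [10, 2, 14, 2], [2, 12, 12, 2],
    [10, 12, 2], [10, 6, 14, 6, 2], [8, 14, 2, 2], [6, 6, 2], [6, 2], [10, 6, 2], [6, 2, 2], [2, 12, 12, 6],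
    [10, 12, 6], [14, 14, 2, 2], [12, 6, 2, 2], [6, 12, 12, 2], [12, 12, 2], [2, 10, 12, 2], [6, 6, 12, 2],
    [12, 2], [6, 12, 2], [14, 10, 6, 2], [2, 12, 2, 2], [6, 10, 12, 2], [10, 6, 12, 2], [12, 6, 6, 2],
    [6, 14, 14, 2, 2], [14, 14, 2], [12, 6, 6], [6, 12, 6, 2, 2], [2, 12, 2], [12, 2, 12, 2], [2, 2, 14, 2],
    [2, 12, 6], [2, 2, 12, 2, 2], [12, 2, 2], [12, 6, 12, 6], [6, 2, 14, 2], [2, 2, 14, 2, 2], [10, 6, 14, 6],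
    [8, 6, 14, 2], [6, 10, 12, 6], [14, 2, 12, 6], [10, 2, 12, 6], [14, 2, 2], [12, 6, 12, 2], [2, 12, 6, 2, 2],
    [2, 2, 12, 2], [6, 14, 6, 2], [14, 6, 2], [12, 14, 6, 2], [6, 12, 12, 6], [14, 6, 6], [8, 2, 14, 2],
    [10, 6, 14, 2, 2], [12, 6], [6, 12, 2, 2], [6, 6, 12, 2, 2], [6, 14, 2], [2, 14, 2], [6, 14, 2, 2],
    [6, 14, 6], [2, 14, 2, 2], [14, 6], [14, 2], [8, 2, 14, 2, 2], [6, 12, 6], [6, 2, 14, 2, 2], [6, 6, 14, 2]]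

/-- Words carrying each point to the base point. -/
def toBase400 : List (List Nat) := [
    [], [0], [4], [7, 4], [6, 4], [2, 0], [4, 0], [7, 4, 0], [6, 4, 0], [4, 2, 0], [15, 0], [1, 15, 0], [15, 4],
    [13, 0], [12, 0], [12, 2, 0], [12, 3, 0], [3, 0], [13, 3, 0], [4, 3, 0], [15, 2, 0], [13, 2, 0], [15, 3, 0],
    [13, 4], [14, 4], [13, 6, 4], [13, 7, 4], [14, 7, 4], [14, 6, 4], [14, 3, 0], [14, 0], [14, 2, 0],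
    [1, 13, 0], [0, 15, 0], [12, 4], [12, 6, 4], [12, 7, 4], [15, 7, 4], [15, 6, 4], [0, 13, 0], [0, 15, 2, 0],
    [0, 13, 3, 0], [13, 6, 4, 0], [1, 15, 2, 0], [15, 6, 4, 0], [0, 15, 3, 0], [0, 13, 2, 0], [13, 7, 4, 0],
    [1, 15, 3, 0], [15, 7, 4, 0], [7, 4, 2, 0], [6, 4, 2, 0], [7, 4, 3, 0], [6, 4, 3, 0], [1, 13, 2, 0],
    [13, 4, 3, 0], [15, 4, 3, 0], [0, 12, 0], [4, 13, 2, 0], [13, 4, 2, 0], [12, 0, 15, 0], [13, 0, 15, 0],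
    [12, 4, 2, 0], [4, 12, 2, 0], [0, 14, 0], [13, 0, 14, 0], [12, 0, 14, 0], [4, 13, 3, 0], [1, 12, 0],
    [4, 15, 3, 0], [15, 4, 2, 0], [12, 7, 4, 0], [0, 12, 3, 0], [0, 12, 2, 0], [14, 0, 13, 0], [15, 1, 13, 0],
    [1, 12, 2, 0], [1, 12, 3, 0], [12, 4, 3, 0], [14, 0, 12, 0], [0, 14, 3, 0], [1, 14, 3, 0], [5, 15, 2, 0],
    [14, 1, 12, 0], [12, 1, 15, 0], [5, 13, 3, 0], [1, 13, 3, 0], [14, 4, 3, 0], [15, 0, 12, 0], [4, 12, 3, 0],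
    [13, 1, 14, 0], [1, 14, 2, 0], [1, 14, 0], [12, 1, 14, 0], [5, 13, 2, 0], [14, 7, 4, 0], [5, 15, 3, 0],
    [4, 15, 2, 0], [12, 6, 4, 0], [13, 1, 15, 0], [5, 12, 3, 0], [15, 1, 12, 0], [0, 14, 2, 0], [4, 14, 3, 0],
    [5, 14, 3, 0], [15, 0, 13, 0], [14, 6, 4, 0], [14, 4, 2, 0], [14, 1, 13, 0], [5, 12, 2, 0], [4, 14, 2, 0],
    [5, 14, 2, 0]]

/-- Words carrying each point to a representative of its orbit under the stabiliser. -/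
def toRep800 : List (List Nat) := [
    [], [], [8], [8, 2, 2], [8, 2], [2], [], [6, 6], [6], [2], [14, 14], [8, 14, 6, 2], [8, 14], [12, 12], [12],
    [12, 2], [2, 12], [2, 2], [12, 2, 12], [2, 2], [14, 14, 2], [14, 2, 14], [12, 12, 2], [10, 12], [14, 8],
    [10, 2, 12], [10, 12, 2], [14, 2, 14, 2, 2], [14], [12, 6, 12, 2, 2], [12, 8], [12, 8, 2], [2, 12, 8],
    [8, 2, 14], [8, 14, 2], [14, 2], [2, 14], [14, 8, 2], [6, 14, 8], [10, 12, 6, 2, 2], [2, 14, 14, 2],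
    [10, 2, 12, 2], [12, 12, 6], [8, 6, 14, 2, 2], [8, 14, 2], [10, 2, 14, 2], [2, 12, 12, 2], [10, 12, 2],
    [14, 2, 12, 2, 2], [8, 14, 2, 2], [6, 6, 2], [6, 2], [10, 6, 2], [6, 2, 2], [2, 12, 12, 6], [10, 12, 6],
    [14, 14, 2, 2], [12, 6, 2, 2], [6, 12, 12, 2], [12, 12, 2], [2, 10, 12, 2], [6, 6, 12, 2], [12, 2],
    [6, 12, 2], [14, 6, 2], [2, 12, 2, 2], [12, 14, 6, 2], [14, 2, 12, 2], [12, 6, 6, 2], [6, 14, 14, 2, 2],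
    [14, 14, 2], [12, 6, 6], [6, 12, 6, 2, 2], [2, 12, 2], [12, 2, 12, 2], [12, 2, 12, 6], [2, 12, 6],
    [2, 2, 12, 2, 2], [12, 2, 2], [2, 2, 14, 2, 2], [6, 2, 14, 2], [14, 6, 12, 2, 2], [8, 2, 14, 2, 2],
    [6, 10, 12, 6], [12, 6, 14, 2], [10, 2, 12, 6], [14, 2, 2], [12, 6, 12, 2], [2, 12, 6, 2, 2], [2, 2, 12, 2],
    [14, 2], [12, 14, 2], [6, 14, 2, 2], [14, 6], [6, 14, 6, 2], [6, 12, 12, 6], [8, 2, 14, 2], [12, 6],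
    [6, 12, 2, 2], [6, 6, 12, 2, 2], [2, 14, 2, 2], [8, 6, 14, 2], [10, 6, 14, 6], [2, 14, 2], [14, 10, 6, 2],
    [6, 14, 6], [6, 14, 2], [2, 10, 12, 6], [6, 12, 6], [10, 6, 14, 2], [6, 2, 14, 2, 2], [6, 6, 14, 2]]

/-- Words carrying each point to the base point. -/
def toBase800 : List (List Nat) := [
    [], [0], [4], [7, 4], [6, 4], [2, 0], [4, 0], [7, 4, 0], [6, 4, 0], [4, 2, 0], [15, 0], [1, 15, 0], [15, 4],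
    [13, 0], [12, 0], [12, 2, 0], [12, 3, 0], [3, 0], [13, 3, 0], [4, 3, 0], [15, 2, 0], [15, 3, 0], [13, 2, 0],
    [13, 4], [14, 4], [13, 6, 4], [13, 7, 4], [1, 13, 0], [14, 0], [0, 15, 0], [12, 4], [12, 6, 4], [12, 7, 4],
    [15, 7, 4], [15, 6, 4], [14, 2, 0], [14, 3, 0], [14, 6, 4], [14, 7, 4], [0, 13, 0], [0, 15, 2, 0],
    [0, 13, 3, 0], [13, 6, 4, 0], [1, 15, 2, 0], [15, 6, 4, 0], [0, 15, 3, 0], [0, 13, 2, 0], [13, 7, 4, 0],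
    [1, 15, 3, 0], [15, 7, 4, 0], [7, 4, 2, 0], [6, 4, 2, 0], [7, 4, 3, 0], [6, 4, 3, 0], [1, 13, 2, 0],
    [13, 4, 3, 0], [15, 4, 3, 0], [0, 12, 0], [4, 13, 2, 0], [13, 4, 2, 0], [12, 1, 15, 0], [13, 1, 15, 0],
    [12, 4, 2, 0], [4, 12, 2, 0], [1, 14, 0], [13, 1, 14, 0], [12, 1, 14, 0], [4, 13, 3, 0], [1, 12, 0],
    [4, 15, 3, 0], [15, 4, 2, 0], [12, 7, 4, 0], [0, 12, 3, 0], [0, 12, 2, 0], [14, 1, 12, 0], [15, 1, 12, 0],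
    [1, 12, 2, 0], [1, 12, 3, 0], [12, 4, 3, 0], [1, 14, 3, 0], [0, 14, 3, 0], [4, 15, 2, 0], [14, 0, 13, 0],
    [12, 0, 15, 0], [5, 13, 3, 0], [1, 13, 3, 0], [14, 4, 3, 0], [15, 0, 13, 0], [4, 12, 3, 0], [13, 0, 14, 0],
    [14, 4, 2, 0], [14, 7, 4, 0], [4, 14, 3, 0], [14, 6, 4, 0], [1, 14, 2, 0], [5, 13, 2, 0], [5, 15, 3, 0],
    [12, 6, 4, 0], [13, 0, 15, 0], [5, 12, 3, 0], [15, 1, 13, 0], [14, 0, 12, 0], [5, 15, 2, 0], [0, 14, 2, 0],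
    [0, 14, 0], [5, 14, 3, 0], [15, 0, 12, 0], [12, 0, 14, 0], [5, 12, 2, 0], [14, 1, 13, 0], [4, 14, 2, 0],
    [5, 14, 2, 0]]

end CfsgU43Iso
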