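import Cfsg.Agent.Lib.U43Iso.Table
import Cfsg.Agent.Lib.U43Iso.Gens
import Cfsg.Agent.Lib.U43Iso.Faithful
import Mathlib.GroupTheory.GroupAction.Quotient

/-!
Groups of U₄(3) type: the group permutes the 112 cosets of the normaliser faithfully, as the table says.
-/

set_option autoImplicit false
set_option maxRecDepth 100000
set_option linter.unusedSectionVars false

namespace CfsgU43Iso

open CfsgU43Type CfsgPC

variable {G : Type*} [Group G] {z : G} {φ : ℕ → G} {B : Subgroup G} {θ : ℕ → G} {e e' : G} {a : ℕ} {L : List G}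

theorem gen_mem {K : Subgroup G} (h : ∀ g < 8, L.getD g 1 ∈ K) (hL : L.length ≤ 8) (x : ℕ) : letG L x ∈ K := by
  have hg : L.getD (x / 2) 1 ∈ K := by
    by_cases hx : x / 2 < 8
    · exact h _ hx
    · rw [List.getD_eq_default _ _ (by omega)]; exact K.one_mem
  unfold letG
  split_ifs
  · exact hg
  · exact K.inv_mem hg

theorem evW_mem {K : Subgroup G} (h : ∀ x, letG L x ∈ K) (w : List ℕ) : evW L w ∈ K :=
  list_prod_mem fun g hg => by
    obtain ⟨x, -, rfl⟩ := List.mem_map.1 hg
    exact h x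

theorem GenData.code_mem (Gd : GenData z φ θ B a L) (D : Data z φ) {K : Subgroup G}
    (h : ∀ g < 8, L.getD g 1 ∈ K) : ∀ c < 1152, φ c ∈ K := by
  refine mgen_induction (fun g hg => ?_) fun x hx y hy px py => by rw [D.mul _ hx _ hy]; exact K.mul_mem px py
  obtain ⟨i, hi, rfl⟩ := List.mem_iff_getElem.1 (show g ∈ genCodes from hg)
  have := h i (by simp [genCodes] at hi; omega)
  rwa [Gd.first i (by simpa [genCodes] using hi), List.getD_eq_getElem _ _ hi] at this

variable [Finite G]

/-- The normaliser lies in the group of the generators. -/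
theorem GenData.normalizer_le (Gd : GenData z φ θ B a L) (D : Base z φ B θ e e') {K : Subgroup G}
    (h : ∀ g < 8, L.getD g 1 ∈ K) : Subgroup.normalizer (B : Set G) ≤ K := by
  have hlet := gen_mem h Gd.len.le
  have hc := Gd.code_mem D.data h
  have hθ : ∀ v ∈ [1, 3, 9, 27], θ v ∈ K := by
    intro v hv
    simp only [List.mem_cons, List.not_mem_nil, or_false] at hv
    rcases hv with rfl | rfl | rfl | rfl
    · rcases D.t1 with e | e <;> rw [e] <;> exact hc _ (by norm_num)
    · rw [D.t3]; exact hc _ (by norm_num)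
    · rw [← Gd.nine]; exact evW_mem hlet _
    · rw [← Gd.twentyseven]; exact evW_mem hlet _
  have hB : B ≤ K := fun g hg => by
    obtain ⟨v, hv, rfl⟩ := (D.coord.mem g).1 hg
    rw [D.coord.dec v hv]
    exact K.mul_mem (K.mul_mem (K.mul_mem (K.pow_mem (hθ 1 (by simp)) _) (K.pow_mem (hθ 3 (by simp)) _))
      (K.pow_mem (hθ 9 (by simp)) _)) (K.pow_mem (hθ 27 (by simp)) _)
  have hgen : ∀ s ∈ lGens, ∃ g ∈ K, VAct θ g s := by
    intro s hs
    simp only [lGens, List.mem_cons, List.not_mem_nil, or_false] at hs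
    rcases hs with rfl | rfl | rfl | rfl | rfl
    exacts [⟨z, D.data.zc ▸ hc 48 (by norm_num), D.az⟩, ⟨_, hc 1 (by norm_num), D.as⟩,
      ⟨_, hc 2 (by norm_num), D.at'⟩, ⟨_, h 6 (by norm_num), Gd.ae⟩, ⟨_, h 7 (by norm_num), Gd.ae'⟩]
  have hact : ∀ M ∈ lList, ∃ g ∈ K, VAct θ g M := by
    intro M hM
    obtain ⟨i, hi, rfl⟩ := List.mem_iff_getElem.1 hM
    rw [← List.getD_eq_getElem _ 0 hi]
    replace hi : i < 360 := hi.trans_eq lList_ok.1
    clear hM
    induction i using Nat.strong_induction_on with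
    | _ i ih =>
      by_cases h0 : i = 0
      · subst h0
        exact ⟨1, K.one_mem, lList_ok.2.2.1.symm ▸ D.coord.act_self B.one_mem⟩
      have := of_range_all lPred_ok hi
      simp only [Bool.or_eq_true, Bool.and_eq_true, decide_eq_true_eq, beq_iff_eq, h0, false_or] at this
      obtain ⟨g, hgK, hg⟩ := ih _ this.1 (by rw [lList_ok.1]; omega) (by omega)
      obtain ⟨s, hsK, hs⟩ := hgen (lGens.getD (lPred.getD i 0 % 5) 0) (by
        have : lPred.getD i 0 % 5 < lGens.length := Nat.mod_lt _ (by norm_num)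
        rw [List.getD_eq_getElem _ _ this]
        exact List.getElem_mem _)
      exact ⟨s * g, K.mul_mem hsK hgK, this.2 ▸ D.coord.act_mul hs hg⟩
  rw [D.normalizer_eq]
  intro g hg
  obtain ⟨M, hM, hgM⟩ := D.mem_lSub.1 hg
  obtain ⟨w, hwK, hw⟩ := hact M hM
  have hb : w⁻¹ * g ∈ B := D.mem_of_act_one fun v hv => by
    rw [lapp_one hv, show w⁻¹ * g * θ v * (w⁻¹ * g)⁻¹ = w⁻¹ * (g * θ v * g⁻¹) * w by group, hgM v hv, ← hw v hv]
    group
  simpa using K.mul_mem hwK (hB hb)

/-- What a checked table says. -/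
theorem tab_parts {codes : List ℕ} {toR toB : List (List ℕ)} (h : tabOK codes toR toB = true) :
    (∀ x < 16, isPerm 112 (codes.getD x 0) (codes.getD (flipL x) 0) = true) ∧
    (∀ d < 112, d ≠ 0 → (∀ x ∈ toR.getD d [], x ∈ subL) ∧
      (runC codes (toR.getD d []) d = 1 ∨ runC codes (toR.getD d []) d = 6)) ∧
    (∀ d < 112, (∀ x ∈ toB.getD d [], x < 16) ∧ runC codes (toB.getD d []) d = 0) ∧
    (∀ r, r = 1 ∨ r = 6 → closeFib codes 6 (2 ^ 0 ||| 2 ^ r) = 2 ^ 112 - 1) ∧
    ∃ d < 112, img codes 1 (img codes 1 d) ≠ d := by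
  simp only [tabOK, Bool.and_eq_true] at h
  obtain ⟨⟨⟨⟨h1, h2⟩, h3⟩, h4⟩, h5⟩ := h
  refine ⟨fun x hx => List.all_eq_true.1 h1 x (List.mem_range.2 hx), fun d hd h0 => ?_, fun d hd => ?_, fun r hr => ?_, ?_⟩
  · have := List.all_eq_true.1 h2 d (List.mem_range.2 hd)
    simpa [h0] using this
  · have := List.all_eq_true.1 h3 d (List.mem_range.2 hd)
    simpa using this
  · exact Nat.eq_of_beq_eq_true (List.all_eq_true.1 h4 r (by simpa using hr))
  · obtain ⟨d, hd, hne⟩ := List.any_eq_true.1 h5
    exact ⟨d, List.mem_range.1 hd, fun e => by simp [e] at hne⟩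

theorem img_of_perm {codes : List ℕ} (h : ∀ x < 16, isPerm 112 (codes.getD x 0) (codes.getD (flipL x) 0) = true)
    {x d : ℕ} (hx : x < 16) (hd : d < 112) :
    img codes x d < 112 ∧ img codes (flipL x) (img codes x d) = d := by
  have := List.all_eq_true.1 (h x hx) d (List.mem_range.2 hd)
  simp only [Bool.and_eq_true, Nat.blt_eq] at this
  exact ⟨this.1.1.1, Nat.eq_of_beq_eq_true this.2⟩

theorem runC_inj {codes : List ℕ} (h : ∀ x < 16, isPerm 112 (codes.getD x 0) (codes.getD (flipL x) 0) = true) :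
    ∀ w : List ℕ, (∀ x ∈ w, x < 16) → ∀ c < 112, ∀ d < 112, runC codes w c = runC codes w d → c = d := by
  intro w
  induction w with
  | nil => exact fun _ _ _ _ _ e => e
  | cons x w ih =>
    intro hw c hc d hd e
    have hx := hw x (List.mem_cons_self ..)
    have := ih (fun y hy => hw y (List.mem_cons_of_mem _ hy)) _ (img_of_perm h hx hc).1 _ (img_of_perm h hx hd).1 e
    rw [← (img_of_perm h hx hc).2, this, (img_of_perm h hx hd).2]

/-- The property kept while a fibre is closed. -/
theorem close_sound {codes : List ℕ} {P : ℕ → Prop} (hsub : ∀ x ∈ subL, ∀ p, P p → P (img codes x p))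
    (hlink : ∀ x < 16, ∀ p < 112, P p → P (img codes x p) → ∀ q, P q → P (img codes x q)) :
    ∀ n S, (∀ p, S.testBit p = true → P p) → ∀ p, (closeFib codes n S).testBit p = true → P p := by
  have hadd : ∀ (x S : ℕ) (l : List ℕ) T, (∀ p, S.testBit p = true → P p) → (∀ q, P q → P (img codes x q)) →
      (∀ p, T.testBit p = true → P p) →
      ∀ p, (l.foldl (fun T p => if S.testBit p then T ||| 2 ^ img codes x p else T) T).testBit p = true → P p := by
    intro x S l
    induction l with
    | nil => exact fun T _ _ h => h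
    | cons y l ih =>
      intro T hS hx hT
      refine ih _ hS hx fun p hp => ?_
      dsimp only at hp
      split_ifs at hp with hy
      · simp only [Nat.testBit_lor, Nat.testBit_two_pow, Bool.or_eq_true, decide_eq_true_eq] at hp
        rcases hp with hp | rfl
        · exact hT p hp
        · exact hx y (hS y hy)
      · exact hT p hp
  have hstep : ∀ (l : List ℕ), (∀ x ∈ l, x < 16) → ∀ T, (∀ p, T.testBit p = true → P p) →
      ∀ p, (l.foldl (fun T x => if linked codes T x then addImg codes T x T else T) T).testBit p = true → P p := by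
    intro l
    induction l with
    | nil => exact fun _ T h => h
    | cons x l ih =>
      intro hl T hT
      refine ih (fun y hy => hl y (List.mem_cons_of_mem _ hy)) _ fun p hp => ?_
      dsimp only at hp
      split_ifs at hp with h
      · refine hadd x T _ T hT (fun q hq => ?_) hT p hp
        simp only [linked, Bool.or_eq_true, List.contains_iff_mem, List.any_eq_true, List.mem_range,
          Bool.and_eq_true] at h
        rcases h with h | ⟨r, hr, h1, h2⟩
        · exact hsub x h q hq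
        · exact hlink x (hl x (List.mem_cons_self ..)) r hr (hT _ h1) (hT _ h2) q hq
      · exact hT p hp
  intro n
  induction n with
  | zero => exact fun S h => h
  | succ n ih => exact fun S hS => ih _ (hstep _ (fun x hx => List.mem_range.1 hx) S hS)

/-- The action on the cosets of the normaliser. -/
theorem GenData.exists_perm (Gd : GenData z φ θ B a L) (D : Base z φ B θ e e') (hcard : Nat.card G = 2835 * 1152)
    {C : Cert} {toR toB : List (List ℕ)} (T : TableFacts a C toR toB) :
    ∃ π : G →* Equiv.Perm (Fin 112), Function.Injective π ∧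
      (∀ g < 8, Rep 112 (C.codes.getD (2 * g + 1) 0) (π (L.getD g 1))) ∧
      Subgroup.closure {x | x ∈ L} = ⊤ := by
  classical
  obtain ⟨N, hN⟩ : ∃ N, Subgroup.normalizer (B : Set G) = N := ⟨_, rfl⟩
  obtain ⟨base, hbase⟩ : ∃ base : G ⧸ N, QuotientGroup.mk (1 : G) = base := ⟨_, rfl⟩
  have hfix : ∀ g : G, g • base = base ↔ g ∈ N := fun g => by
    rw [← hbase, show g • (QuotientGroup.mk 1 : G ⧸ N) = QuotientGroup.mk (g * 1) from rfl, mul_one, eq_comm,
      QuotientGroup.eq, inv_one, one_mul]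
  have hsub : ∀ x ∈ subL, stepP L x base = base := fun x hx =>
    (hfix _).2 (N.inv_mem (hN ▸ Gd.sub x hx))
  obtain ⟨spec, hspec⟩ := T.rules
  obtain ⟨f, hf0, hf⟩ := table_sound (L := L) (base := base) Gd.len.le hsub
    (hspec ▸ rulesOf_ok Gd.len.le Gd.rel spec) T.facts T.rows T.rep0
  obtain ⟨hperm, htoR, htoB, hclose, hmove⟩ := tab_parts T.tab
  have hrun : ∀ w : List ℕ, (∀ x ∈ w, x < 16) → ∀ d < 112, runC C.codes w d < 112 ∧
      (evW L w)⁻¹ • f d = f (runC C.codes w d) := by
    intro w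
    induction w with
    | nil => exact fun _ d hd => ⟨hd, by rw [evW_nil, inv_one, one_smul]; rfl⟩
    | cons x w ih =>
      intro hw d hd
      obtain ⟨hl, he⟩ := hf d hd x (hw x (List.mem_cons_self ..))
      obtain ⟨h1, h2⟩ := ih (fun y hy => hw y (List.mem_cons_of_mem _ hy)) _ hl
      refine ⟨h1, ?_⟩
      rw [evW_cons, mul_inv_rev, mul_smul, show (letG L x)⁻¹ • f d = f (ap (C.codes.getD x 0) d) from he, h2]
      rfl
  have hsubl : ∀ x ∈ subL, x < 16 := by decide
  -- the fibre of the base point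
  have hfib : ∀ d < 112, f d = base → d = 0 := by
    intro d hd hfd
    by_contra hd0
    obtain ⟨hw, hr⟩ := htoR d hd hd0
    obtain ⟨hl, he⟩ := hrun _ (fun x hx => hsubl x (hw x hx)) d hd
    have hmem : evW L (toR.getD d []) ∈ N := list_prod_mem fun g hg => by
      obtain ⟨x, hx, rfl⟩ := List.mem_map.1 hg
      exact hN ▸ Gd.sub x (hw x hx)
    rw [hfd, (hfix _).2 (N.inv_mem hmem)] at he
    obtain ⟨r, hrdef⟩ : ∃ r, runC C.codes (toR.getD d []) d = r := ⟨_, rfl⟩
    rw [hrdef] at hr he hl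
    have hall : ∀ p < 112, f p = base := by
      have key := close_sound (codes := C.codes) (P := fun p => p < 112 ∧ f p = base)
        (fun x hx p hp => ⟨(img_of_perm hperm (hsubl x hx) hp.1).1, by
          rw [show img C.codes x p = ap (C.codes.getD x 0) p from rfl, ← (hf p hp.1 x (hsubl x hx)).2, hp.2,
            hsub x hx]⟩)
        (fun x hx p hp hp' hp'' q hq => ⟨(img_of_perm hperm hx hq.1).1, by
          have h1 := (hf p hp x hx).2
          rw [hp'.2, show ap (C.codes.getD x 0) p = img C.codes x p from rfl, hp''.2] at h1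
          rw [show img C.codes x q = ap (C.codes.getD x 0) q from rfl, ← (hf q hq.1 x hx).2, hq.2, h1]⟩)
        6 (2 ^ 0 ||| 2 ^ r) (fun p hp => by
          simp only [Nat.testBit_lor, Nat.testBit_two_pow, Bool.or_eq_true, decide_eq_true_eq] at hp
          rcases hp with rfl | rfl
          exacts [⟨by norm_num, hf0⟩, ⟨hl, he.symm⟩])
      intro p hp
      refine (key p ?_).2
      rw [hclose r hr, Nat.testBit_two_pow_sub_one]
      simpa using hp
    have hNg : ∀ g < 8, L.getD g 1 ∈ N := fun g hg => by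
      have := (hf 0 (by norm_num) (2 * g) (by omega)).2
      rw [hf0, hall _ (hf 0 (by norm_num) (2 * g) (by omega)).1, stepP, hfix, Subgroup.inv_mem_iff] at this
      simpa [letG] using this
    have hle : Subgroup.centralizer ({z} : Set G) ≤ N := fun c hc => by
      obtain ⟨k, hk, rfl⟩ := (D.data.cent c).1 (Subgroup.mem_centralizer_singleton_iff.1 hc)
      exact Gd.code_mem D.data hNg k hk
    have hdvd := Subgroup.card_dvd_of_le hle
    rw [D.data.card_cent, ← hN, D.card_normalizer] at hdvd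
    norm_num at hdvd
  have hinj : ∀ c < 112, ∀ d < 112, f c = f d → c = d := by
    intro c hc d hd h
    obtain ⟨hw, hw0⟩ := htoB c hc
    obtain ⟨-, hec⟩ := hrun _ hw c hc
    obtain ⟨hl, hed⟩ := hrun _ hw d hd
    rw [hw0, h, hed, hf0] at hec
    exact runC_inj hperm _ hw c hc d hd (hw0.trans (hfib _ hl hec).symm)
  obtain ⟨F, hF⟩ : ∃ F : Fin 112 → G ⧸ N, ∀ i, F i = f i := ⟨fun i => f i, fun _ => rfl⟩
  have hcq : Nat.card (G ⧸ N) = 112 := by
    have := Subgroup.card_eq_card_quotient_mul_card_subgroup N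
    rw [hcard, ← hN, D.card_normalizer, hN] at this
    omega
  have hFb : Function.Bijective F := (Nat.bijective_iff_injective_and_card F).2
    ⟨fun i j h => Fin.ext (hinj i i.2 j j.2 (by rwa [hF, hF] at h)), by rw [hcq, Nat.card_fin]⟩
  -- the generators generate
  have htop : Subgroup.closure {x | x ∈ L} = ⊤ := by
    have hg : ∀ g < 8, L.getD g 1 ∈ Subgroup.closure {x | x ∈ L} := fun g hg => Subgroup.subset_closure (by
      rw [List.getD_eq_getElem _ _ (Gd.len.symm ▸ hg : g < L.length)]; exact List.getElem_mem _)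
    rw [eq_top_iff]
    intro g _
    obtain ⟨i, hi⟩ := hFb.2 (QuotientGroup.mk g)
    rw [hF] at hi
    obtain ⟨hw, hw0⟩ := htoB i i.2
    obtain ⟨-, hei⟩ := hrun _ hw i i.2
    rw [hw0, hf0, inv_smul_eq_iff] at hei
    rw [hei, ← hbase, show evW L (toB.getD i []) • (QuotientGroup.mk 1 : G ⧸ N) =
      QuotientGroup.mk (evW L (toB.getD i []) * 1) from rfl, mul_one, QuotientGroup.eq, ← hN] at hi
    have h1 := Gd.normalizer_le D hg hi
    have h2 := evW_mem (gen_mem hg Gd.len.le) (toB.getD i [])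
    simpa using (Subgroup.closure {x | x ∈ L}).mul_mem h2 h1
  obtain ⟨E, hE⟩ : ∃ E : Fin 112 ≃ G ⧸ N, ∀ i, E i = f i := ⟨Equiv.ofBijective F hFb, hF⟩
  let π : G →* Equiv.Perm (Fin 112) := E.symm.permCongrHom.toMonoidHom.comp (MulAction.toPermHom G (G ⧸ N))
  have hπ : ∀ g i, E (π g i) = g • E i := fun g i => by
    simp [π, Equiv.permCongrHom, Equiv.permCongr_apply]
  have hgenπ : ∀ g < 8, Rep 112 (C.codes.getD (2 * g + 1) 0) (π (L.getD g 1)) := fun g hg i => by
    obtain ⟨hl, he⟩ := hf i i.2 (2 * g + 1) (by omega)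
    refine hinj _ hl _ (π _ i).2 ?_
    rw [← hE (π _ i), hπ, hE, ← he, stepP]
    simp [letG, show (2 * g + 1) % 2 = 1 by omega, show (2 * g + 1) / 2 = g by omega]
  refine ⟨π, ?_, hgenπ, htop⟩
  rw [← MonoidHom.ker_eq_bot_iff]
  have hR : ∀ g, g ∈ π.ker ↔ ∀ v : G ⧸ N, g • v = v := fun g => by
    refine ⟨fun h v => ?_, fun h => Equiv.ext fun i => E.injective (by rw [hπ, h]; rfl)⟩
    obtain ⟨i, rfl⟩ := E.surjective v
    rw [← hπ, MonoidHom.mem_ker.1 h]
    rfl
  rcases Nat.even_or_odd (Nat.card π.ker) with hev | hodd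
  · exfalso
    haveI : Fact (Nat.Prime 2) := ⟨Nat.prime_two⟩
    obtain ⟨t, ht⟩ := exists_prime_orderOf_dvd_card' (G := π.ker) 2 hev.two_dvd
    obtain ⟨c, hc⟩ := isConj_iff.1 (D.data.one_class (t := (t : G)) (by rwa [Subgroup.orderOf_coe]))
    have hz : z ∈ π.ker := by
      have := π.normal_ker.conj_mem _ t.2 c⁻¹
      rwa [← hc, show c⁻¹ * (c * z * c⁻¹) * c⁻¹⁻¹ = z by group] at this
    obtain ⟨d, hd, hne⟩ := hmove
    have hz2 : L.getD 0 1 * L.getD 0 1 = z := by
      rw [← D.data.zc, ← Gd.code 48 (by simp [wCodes])]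
      simp [evW, wordFor, letG]
    have hd1 := img_of_perm hperm (show 1 < 16 by norm_num) hd
    have hd2 := img_of_perm hperm (show 1 < 16 by norm_num) hd1.1
    refine hne (hinj _ hd2.1 _ hd ?_)
    have e1 := (hf d hd 1 (by norm_num)).2
    have e2 := (hf _ hd1.1 1 (by norm_num)).2
    rw [show ap (C.codes.getD 1 0) d = img C.codes 1 d from rfl] at e1
    rw [show ap (C.codes.getD 1 0) (img C.codes 1 d) = img C.codes 1 (img C.codes 1 d) from rfl, ← e1] at e2
    rw [← e2]
    conv_rhs => rw [← (hR z).1 hz (f d), ← hz2, mul_smul]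
    simp [stepP, letG]
  · haveI := π.normal_ker
    exact Data.odd_normal D.data hodd

end CfsgU43Iso
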