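import Cfsg.Agent.Lib.U43Iso.Cert
import Cfsg.Agent.Lib.U43Iso.Paths

/-!
Groups of U₄(3) type: what is checked about a final table.
-/

set_option autoImplicit false

namespace CfsgU43Iso

open CfsgPC (ap isPerm)

/-- The image of a point under a letter. -/
def img (codes : List ℕ) (x p : ℕ) : ℕ := ap (codes.getD x 0) p

/-- The image of a point under a word. -/
def runC (codes : List ℕ) : List ℕ → ℕ → ℕ
  | [], d => d
  | x :: w, d => runC codes w (img codes x d)

/-- Two points in the set are related by the letter. -/
def linked (codes : List ℕ) (S x : ℕ) : Bool :=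
  subL.contains x || (List.range 112).any fun p => S.testBit p && S.testBit (img codes x p)

/-- The images of the set under one letter are added. -/
def addImg (codes : List ℕ) (S x T : ℕ) : ℕ :=
  (List.range 112).foldl (fun T p => if S.testBit p then T ||| 2 ^ img codes x p else T) T

/-- One round of closing a fibre. -/
def closeStep (codes : List ℕ) (S : ℕ) : ℕ :=
  (List.range 16).foldl (fun T x => if linked codes T x then addImg codes T x T else T) S

/-- Several rounds. -/
def closeFib (codes : List ℕ) : ℕ → ℕ → ℕ
  | 0, S => S
  | n + 1, S => closeFib codes n (closeStep codes S)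

/-- The checks on a table. -/
def tabOK (codes : List ℕ) (toR toB : List (List ℕ)) : Bool :=
  ((List.range 16).all fun x => isPerm 112 (codes.getD x 0) (codes.getD (flipL x) 0)) &&
    ((List.range 112).all fun d => d == 0 || ((toR.getD d []).all fun x => subL.contains x) &&
      [1, 6].contains (runC codes (toR.getD d []) d)) &&
    ((List.range 112).all fun d => ((toB.getD d []).all fun x => decide (x < 16)) &&
      Nat.beq (runC codes (toB.getD d []) d) 0) &&
    ([1, 6].all fun r => Nat.beq (closeFib codes 6 (2 ^ 0 ||| 2 ^ r)) (2 ^ 112 - 1)) &&
    ((List.range 112).any fun d => !Nat.beq (img codes 1 (img codes 1 d)) d)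

/-- What is used about an enumeration. -/
structure TableFacts (a : ℕ) (C : Cert) (toR toB : List (List ℕ)) : Prop where
  rules : ∃ spec, C.rules = rulesOf (rels a) spec
  facts : ∀ j < C.nf, C.okFact j = true
  rows : ∀ d < 112, C.okRow d = true
  rep0 : C.rep.getD 0 0 = 0
  tab : tabOK C.codes toR toB = true

end CfsgU43Iso
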